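import Cfsg.Agent.Forms.EvenType
import Cfsg.Agent.Forms.Matrix
import Cfsg.Prelude.Def_LieClassical
import Mathlib

/-!
The quadratic form `Σ v_i ^ (q + 1)` over the subfield and the embedding of the unitary group.
-/

set_option autoImplicit false

open QuadraticMap Matrix

namespace CfsgLib.Forms.Unitary

variable {K F : Type*} [Field K] [Fintype K] [Field F] [Fintype F] [Algebra F K]

/-- The Frobenius over `F`. -/
noncomputable def frob (F K : Type*) [Field K] [Field F] [Fintype F] [Algebra F K] : K →ₐ[F] K :=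
  FiniteField.frobeniusAlgHom F K

theorem frob_apply (x : K) : frob F K x = x ^ Fintype.card F := by
  simp [frob]

variable (hK : Fintype.card K = Fintype.card F ^ 2)

include hK

theorem frob_frob (x : K) : frob F K (frob F K x) = x := by
  rw [frob_apply, frob_apply, ← pow_mul, ← pow_two, ← hK, FiniteField.pow_card]

theorem exists_gen : ∃ g : Kˣ, orderOf g = (Fintype.card F - 1) * (Fintype.card F + 1) := by
  obtain ⟨g, hg⟩ := IsCyclic.exists_ofOrder_eq_natCard (α := Kˣ)
  refine ⟨g, ?_⟩
  rw [hg, Nat.card_units, Nat.card_eq_fintype_card, hK]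
  obtain ⟨k, hk⟩ : ∃ k, Fintype.card F = k + 1 := ⟨Fintype.card F - 1, by have := Fintype.card_pos (α := F); omega⟩
  rw [hk, Nat.add_sub_cancel, show (k + 1) ^ 2 = k * (k + 1 + 1) + 1 by ring, Nat.add_sub_cancel]

theorem exists_frob_ne : ∃ x : K, frob F K x ≠ x := by
  by_contra hcon
  push Not at hcon
  obtain ⟨g, hg⟩ := exists_gen hK
  have hq := Fintype.one_lt_card (α := F)
  have h1 : g ^ (Fintype.card F - 1) = 1 := by
    refine Units.ext ?_
    have := hcon (g : K)
    rw [frob_apply, show Fintype.card F = Fintype.card F - 1 + 1 by omega, pow_succ] at this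
    rw [Units.val_pow_eq_pow_val, Units.val_one]
    exact mul_right_cancel₀ g.ne_zero (this.trans (one_mul _).symm)
  have h2 := Nat.le_of_dvd (by omega) (hg ▸ orderOf_dvd_of_pow_eq_one h1)
  nlinarith [show 1 ≤ Fintype.card F - 1 by omega]

theorem exists_of_fixed {x : K} (hx : frob F K x = x) : ∃ a : F, algebraMap F K a = x := by
  classical
  have hq := Fintype.one_lt_card (α := F)
  rcases eq_or_ne x 0 with rfl | hx0
  · exact ⟨0, map_zero _⟩
  let s : Finset Kˣ := Finset.univ.filter (fun u : Kˣ => u ^ (Fintype.card F - 1) = 1)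
  let ι : Fˣ → Kˣ := Units.map (algebraMap F K : F →* K)
  have hι : Function.Injective ι := fun a b h => Units.ext ((algebraMap F K).injective (congrArg Units.val h))
  have hsub : Finset.univ.image ι ⊆ s := fun u hu => by
    obtain ⟨a, -, rfl⟩ := Finset.mem_image.1 hu
    refine Finset.mem_filter.2 ⟨Finset.mem_univ _, ?_⟩
    show Units.map (algebraMap F K : F →* K) a ^ _ = 1
    rw [← map_pow, show Fintype.card F - 1 = Fintype.card Fˣ by rw [Fintype.card_units], pow_card_eq_one, map_one]
  have hcard : s.card ≤ (Finset.univ.image ι).card := by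
    rw [Finset.card_image_of_injective _ hι, Finset.card_univ, Fintype.card_units]
    exact IsCyclic.card_pow_eq_one_le (by omega)
  have hmem : Units.mk0 x hx0 ∈ s := by
    refine Finset.mem_filter.2 ⟨Finset.mem_univ _, Units.ext ?_⟩
    rw [Units.val_pow_eq_pow_val, Units.val_mk0, Units.val_one]
    rw [frob_apply, show Fintype.card F = Fintype.card F - 1 + 1 by omega, pow_succ] at hx
    exact mul_right_cancel₀ hx0 (hx.trans (one_mul _).symm)
  rw [← Finset.eq_of_subset_of_card_le hsub hcard] at hmem
  obtain ⟨a, -, ha⟩ := Finset.mem_image.1 hmem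
  exact ⟨a, congrArg Units.val ha⟩

theorem exists_norm_eq {y : K} (hy : frob F K y = y) (hy0 : y ≠ 0) : ∃ t : K, t * frob F K t = y := by
  obtain ⟨g, hg⟩ := exists_gen hK
  have hq := Fintype.one_lt_card (α := F)
  have hgen : Subgroup.zpowers g = ⊤ := by
    refine Subgroup.eq_top_of_card_eq _ ?_
    rw [Nat.card_zpowers, hg, Nat.card_units, Nat.card_eq_fintype_card, hK]
    obtain ⟨k, hk⟩ : ∃ k, Fintype.card F = k + 1 := ⟨Fintype.card F - 1, by omega⟩
    rw [hk, Nat.add_sub_cancel, show (k + 1) ^ 2 = k * (k + 1 + 1) + 1 by ring, Nat.add_sub_cancel]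
  obtain ⟨j, hj⟩ := mem_powers_iff_mem_zpowers.2 (hgen ▸ Subgroup.mem_top (Units.mk0 y hy0))
  simp only at hj
  have h1 : g ^ (j * (Fintype.card F - 1)) = 1 := by
    rw [pow_mul, hj]
    refine Units.ext ?_
    rw [Units.val_pow_eq_pow_val, Units.val_mk0, Units.val_one]
    rw [frob_apply, show Fintype.card F = Fintype.card F - 1 + 1 by omega, pow_succ] at hy
    exact mul_right_cancel₀ hy0 (hy.trans (one_mul _).symm)
  have h2 := orderOf_dvd_of_pow_eq_one h1
  rw [hg, mul_comm j] at h2
  obtain ⟨i, hi⟩ := Nat.dvd_of_mul_dvd_mul_left (by omega) h2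
  refine ⟨((g ^ i : Kˣ) : K), ?_⟩
  rw [frob_apply, ← pow_succ', ← Units.val_pow_eq_pow_val, ← pow_mul, show i * (Fintype.card F + 1) = j by rw [hi]; ring, hj,
    Units.val_mk0]

variable {ι : Type} [Fintype ι]

theorem sum_fixed (v : ι → K) : frob F K (∑ i, v i * frob F K (v i)) = ∑ i, v i * frob F K (v i) := by
  rw [map_sum]
  exact Finset.sum_congr rfl fun i _ => by rw [map_mul, frob_frob hK, mul_comm]

/-- `Σ v_i σ(v_i)` as an element of `F`. -/
noncomputable def normFun (v : ι → K) : F := (exists_of_fixed hK (sum_fixed hK v)).choose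

theorem algebraMap_normFun (v : ι → K) : algebraMap F K (normFun hK v) = ∑ i, v i * frob F K (v i) :=
  (exists_of_fixed hK (sum_fixed hK v)).choose_spec

theorem algebraMap_polar (u v : ι → K) :
    algebraMap F K (polar (normFun hK) u v) = ∑ i, (u i * frob F K (v i) + v i * frob F K (u i)) := by
  simp only [polar, map_sub, algebraMap_normFun, Pi.add_apply, map_add, ← Finset.sum_sub_distrib]
  exact Finset.sum_congr rfl fun i _ => by ring

/-- The form. -/
noncomputable def normForm : QuadraticForm F (ι → K) :=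
  QuadraticMap.ofPolar (normFun hK)
    (fun a x => (algebraMap F K).injective (by
      rw [smul_eq_mul, map_mul, map_mul, algebraMap_normFun, algebraMap_normFun, Finset.mul_sum]
      refine Finset.sum_congr rfl fun i _ => ?_
      rw [Pi.smul_apply, Algebra.smul_def, map_mul, AlgHom.commutes]
      ring))
    (fun x x' y => (algebraMap F K).injective (by
      rw [map_add, algebraMap_polar, algebraMap_polar, algebraMap_polar, ← Finset.sum_add_distrib]
      refine Finset.sum_congr rfl fun i _ => ?_
      rw [Pi.add_apply, map_add]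
      ring))
    (fun a x y => (algebraMap F K).injective (by
      rw [smul_eq_mul, map_mul, algebraMap_polar, algebraMap_polar, Finset.mul_sum]
      refine Finset.sum_congr rfl fun i _ => ?_
      rw [Pi.smul_apply, Algebra.smul_def, map_mul, AlgHom.commutes]
      ring))

theorem algebraMap_normForm (v : ι → K) : algebraMap F K (normForm hK v) = ∑ i, v i * frob F K (v i) :=
  algebraMap_normFun hK v

theorem algebraMap_polar' (u v : ι → K) :
    algebraMap F K (polar (normForm hK) u v) = ∑ i, (u i * frob F K (v i) + v i * frob F K (u i)) :=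
  algebraMap_polar hK u v

theorem finrank_eq : Module.finrank F K = 2 := by
  have h := Module.natCard_eq_pow_finrank (K := F) (V := K)
  rw [Nat.card_eq_fintype_card, Nat.card_eq_fintype_card, hK] at h
  exact (Nat.pow_right_injective (Fintype.one_lt_card (α := F)) h).symm

theorem eq_zero_of_trace {z : K} (h : ∀ c : K, z * c + frob F K (z * c) = 0) : z = 0 := by
  by_contra hz
  have h' : ∀ w : K, frob F K w = -w := fun w => by
    have := h (z⁻¹ * w)
    rw [← mul_assoc, mul_inv_cancel₀ hz, one_mul] at this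
    linear_combination this
  obtain ⟨x, hx⟩ := exists_frob_ne hK
  have h1 := h' 1
  rw [map_one] at h1
  exact hx (by linear_combination h' x + x * (-1 : K) * h1)

theorem nondegenerate : (polarBilin (normForm hK (ι := ι))).Nondegenerate := by
  classical
  refine nondegenerate_iff.2 fun u hu => funext fun i => eq_zero_of_trace hK fun c => ?_
  have := congrArg (algebraMap F K) (hu (Pi.single i (frob F K c)))
  rw [algebraMap_polar', map_zero, Finset.sum_eq_single i (fun j _ hj => by simp [hj]) (by simp)] at this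
  rw [Pi.single_eq_same, frob_frob hK] at this
  rw [map_mul]
  linear_combination this

variable (k r : ℕ) (t : K)

/-- The singular subspace `(a, t a, 0)`. -/
noncomputable def pairMap : (Fin k → K) →ₗ[F] ((Fin k ⊕ Fin k) ⊕ Fin r → K) where
  toFun a := Sum.elim (Sum.elim a (fun i => t * a i)) 0
  map_add' a b := by funext z; rcases z with (z | z) | z <;> simp [mul_add]
  map_smul' c a := by
    funext z; rcases z with (z | z) | z <;> simp [Algebra.smul_def, mul_left_comm]

theorem exists_half_singular (hy : t * frob F K t = -1) :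
    ∀ v ∈ LinearMap.range (pairMap (F := F) k r t), normForm hK v = 0 := by
  rintro _ ⟨a, rfl⟩
  refine (algebraMap F K).injective ?_
  rw [algebraMap_normForm, map_zero, Fintype.sum_sum_type, Fintype.sum_sum_type, ← Finset.sum_add_distrib]
  have : ∀ i : Fin r, (0 : K) * frob F K 0 = 0 := fun _ => zero_mul _
  simp only [pairMap, LinearMap.coe_mk, AddHom.coe_mk, Sum.elim_inl, Sum.elim_inr, Pi.zero_apply, zero_mul,
    Finset.sum_const_zero, add_zero, map_mul]
  exact Finset.sum_eq_zero fun i _ => by linear_combination (a i * frob F K (a i)) * hy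

theorem finrank_range_pairMap : Module.finrank F (LinearMap.range (pairMap (F := F) k r t)) = 2 * k := by
  rw [LinearMap.finrank_range_of_inj fun a b h => funext fun i => congrFun h (Sum.inl (Sum.inl i)),
    Module.finrank_pi_fintype, finrank_eq hK]
  simp [mul_comm]

/-- Singular vectors orthogonal to the subspace lie in it, when one coordinate is left. -/
theorem mem_of_singular_perp (hy : t * frob F K t = -1) {d : (Fin k ⊕ Fin k) ⊕ Fin 1 → K}
    (hd : normForm hK d = 0) (hperp : ∀ a, polar (normForm hK) d (pairMap (F := F) k 1 t a) = 0) :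
    d ∈ LinearMap.range (pairMap (F := F) k 1 t) := by
  classical
  have hco : ∀ i, d (Sum.inl (Sum.inr i)) = t * d (Sum.inl (Sum.inl i)) := by
    intro i
    have h0 : d (Sum.inl (Sum.inl i)) + frob F K t * d (Sum.inl (Sum.inr i)) = 0 := by
      refine eq_zero_of_trace hK fun c => ?_
      have := congrArg (algebraMap F K) (hperp (Pi.single i (frob F K c)))
      rw [algebraMap_polar', map_zero, Fintype.sum_sum_type, Fintype.sum_sum_type, ← Finset.sum_add_distrib,
        Finset.sum_eq_single i (fun j _ hj => by simp [pairMap, hj]) (by simp)] at this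
      simp only [pairMap, LinearMap.coe_mk, AddHom.coe_mk, Sum.elim_inl, Sum.elim_inr, Pi.single_eq_same,
        Pi.zero_apply, map_zero, mul_zero, zero_mul, add_zero, Finset.sum_const_zero, frob_frob hK, map_mul] at this
      simp only [map_mul, map_add, frob_frob hK]
      linear_combination this
    linear_combination -t * h0 + (d (Sum.inl (Sum.inr i))) * hy
  have hlast : d (Sum.inr 0) = 0 := by
    have := congrArg (algebraMap F K) hd
    rw [algebraMap_normForm, map_zero, Fintype.sum_sum_type, Fintype.sum_sum_type, ← Finset.sum_add_distrib,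
      Fin.sum_univ_one] at this
    have hz : ∑ i, (d (Sum.inl (Sum.inl i)) * frob F K (d (Sum.inl (Sum.inl i))) +
        d (Sum.inl (Sum.inr i)) * frob F K (d (Sum.inl (Sum.inr i)))) = 0 :=
      Finset.sum_eq_zero fun i _ => by
        rw [hco, map_mul]
        linear_combination (d (Sum.inl (Sum.inl i)) * frob F K (d (Sum.inl (Sum.inl i)))) * hy
    rw [hz, zero_add] at this
    rcases mul_eq_zero.1 this with h | h
    · exact h
    · exact (map_eq_zero _).1 h
  refine ⟨fun i => d (Sum.inl (Sum.inl i)), funext fun z => ?_⟩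
  rcases z with (z | z) | z
  · rfl
  · exact (hco z).symm
  · rw [Subsingleton.elim z 0, hlast]; rfl

theorem no_singular_half (hy : t * frob F K t = -1) :
    ¬ ∃ S : Submodule F ((Fin k ⊕ Fin k) ⊕ Fin 1 → K), (∀ v ∈ S, normForm hK v = 0) ∧
      2 * k + 1 ≤ Module.finrank F S := by
  rintro ⟨S, hS, hSd⟩
  set U := LinearMap.range (pairMap (F := F) k 1 t) with hU
  have hUd : Module.finrank F U = 2 * k := finrank_range_pairMap hK k 1 t
  have hU0 : ∀ u ∈ U, normForm hK u = 0 := exists_half_singular hK k 1 t hy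
  obtain ⟨f, hf⟩ := exists_linearIndependent_of_le_finrank (R := F) (M := S) (n := Module.finrank F U) (by omega)
  let j : U →ₗ[F] S := (Finsupp.linearCombination F f) ∘ₗ ((Module.finBasis F U).repr : U →ₗ[F] _)
  have hj : Function.Injective j :=
    (linearIndependent_iff_injective_finsuppLinearCombination.1 hf).comp (Module.finBasis F U).repr.injective
  obtain ⟨g, hg, hgU⟩ := witt (nondegenerate hK) U (S.subtype ∘ₗ j) (Subtype.val_injective.comp hj)
    (fun x => by rw [hU0 x x.2]; exact hS _ (j x).2)
  set W₀ := S.map (g.symm : _ →ₗ[F] ((Fin k ⊕ Fin k) ⊕ Fin 1 → K))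
  have hW0 : ∀ w ∈ W₀, normForm hK w = 0 := by
    rintro _ ⟨s, hs, rfl⟩
    rw [LinearEquiv.coe_coe, ← hg, g.apply_symm_apply]; exact hS s hs
  have hUW : U ≤ W₀ := fun u hu =>
    ⟨g u, by rw [hgU ⟨u, hu⟩]; exact (j ⟨u, hu⟩).2, g.symm_apply_apply u⟩
  have hle : W₀ ≤ U := fun d hd => mem_of_singular_perp hK k t hy (hW0 d hd) fun a => by
    have ha := hUW (LinearMap.mem_range_self (pairMap (F := F) k 1 t) a)
    rw [polar, hW0 _ (add_mem hd ha), hW0 d hd, hW0 _ ha]; simp
  have := Submodule.finrank_mono hle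
  rw [LinearEquiv.finrank_map_eq] at this
  omega

/-- Reindexing. -/
theorem normForm_reindex {κ : Type} [Fintype κ] (e : ι ≃ κ) (v : κ → K) :
    normForm hK (v ∘ e) = normForm hK v := by
  refine (algebraMap F K).injective ?_
  rw [algebraMap_normForm, algebraMap_normForm]
  exact e.sum_comp fun j => v j * frob F K (v j)

/-- The embedding of `GU` into the isometry group of a form isometric to `normForm`. -/
theorem exists_embedding {m : ℕ} {κ : Type} [Fintype κ] [DecidableEq κ] (P : (κ → F) → F)
    (g : (Fin m → K) ≃ₗ[F] (κ → F)) (hg : ∀ v, P (g v) = normForm hK v) :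
    ∃ φ : ↥(Cfsg.GU m K (Fintype.card F)) →* ↥(Cfsg.isometryGroup F P), Function.Injective φ := by
  let r : ↥(Cfsg.GU m K (Fintype.card F)) → ((Fin m → K) ≃ₗ[F] (Fin m → K)) := fun x =>
    (glEquiv (x : GL (Fin m) K)).restrictScalars F
  let ψ : ↥(Cfsg.GU m K (Fintype.card F)) →* GL κ F :=
    MonoidHom.mk' (fun x => glEquiv.symm (g.symm ≪≫ₗ r x ≪≫ₗ g)) fun x y => by
      rw [← map_mul]
      refine congrArg glEquiv.symm (LinearEquiv.ext fun v => ?_)
      show g (glEquiv ((x * y : ↥(Cfsg.GU m K (Fintype.card F))) : GL (Fin m) K) (g.symm v)) =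
        g (glEquiv (x : GL (Fin m) K) (g.symm (g (glEquiv (y : GL (Fin m) K) (g.symm v)))))
      rw [g.symm_apply_apply, Subgroup.coe_mul, map_mul]
      rfl
  have hψ : ∀ x v, ((ψ x : GL κ F) : Matrix κ κ F) *ᵥ v = g (glEquiv (x : GL (Fin m) K) (g.symm v)) := by
    intro x v
    rw [← glEquiv_apply]
    exact congrArg (fun e : (κ → F) ≃ₗ[F] (κ → F) => e v) (glEquiv.apply_symm_apply (g.symm ≪≫ₗ r x ≪≫ₗ g))
  have hmem : ∀ x, ψ x ∈ Cfsg.isometryGroup F P := fun x => mem_isometryGroup.2 fun v => by
    rw [hψ, hg]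
    conv_rhs => rw [← g.apply_symm_apply v, hg]
    refine (algebraMap F K).injective ?_
    rw [algebraMap_normForm, algebraMap_normForm]
    simp only [frob_apply, glEquiv_apply]
    exact x.2 (g.symm v) (g.symm v)
  refine ⟨ψ.codRestrict _ hmem, fun x y h => Subtype.ext ?_⟩
  have hxy : ψ x = ψ y := congrArg Subtype.val h
  refine glEquiv.injective (LinearEquiv.ext fun w => g.injective ?_)
  have h1 := hψ x (g w)
  rw [hxy, hψ, g.symm_apply_apply] at h1
  exact h1.symm

omit hK in
theorem exists_algebra {K F : Type*} [Field K] [Fintype K] [Field F] [Fintype F] {q : ℕ}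
    (hK : Fintype.card K = q ^ 2) (hF : Fintype.card F = q) : Nonempty (F →+* K) := by
  obtain ⟨p, _⟩ := CharP.exists F
  obtain ⟨n, hp, hn⟩ := FiniteField.card F p
  haveI : Fact p.Prime := ⟨hp⟩
  obtain ⟨p', _⟩ := CharP.exists K
  obtain ⟨n', hp', hn'⟩ := FiniteField.card K p'
  have hpp : p' = p := by
    have h1 : p' ^ (n' : ℕ) = p ^ (2 * (n : ℕ)) := by rw [← hn', hK, ← hF, hn, ← pow_mul, mul_comm]
    have h2 : p' ∣ p ^ (2 * (n : ℕ)) := h1 ▸ dvd_pow_self p' n'.ne_zero
    exact (Nat.prime_dvd_prime_iff_eq hp' hp).1 (hp'.dvd_of_dvd_pow h2)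
  subst hpp
  haveI : Fact p'.Prime := ⟨hp'⟩
  letI := ZMod.algebra F p'
  letI := ZMod.algebra K p'
  have hfF := Module.natCard_eq_pow_finrank (K := ZMod p') (V := F)
  have hfK := Module.natCard_eq_pow_finrank (K := ZMod p') (V := K)
  rw [Nat.card_eq_fintype_card, Nat.card_zmod, hF] at hfF
  rw [Nat.card_eq_fintype_card, Nat.card_zmod, hK, hfF, ← pow_mul] at hfK
  have hd : Module.finrank (ZMod p') F ∣ Module.finrank (ZMod p') K :=
    ⟨2, (Nat.pow_right_injective hp'.two_le hfK).symm⟩
  obtain ⟨f⟩ := FiniteField.nonempty_algHom_of_finrank_dvd hd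
  exact ⟨f.toRingHom⟩

end CfsgLib.Forms.Unitary
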