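import Cfsg.Agent.S0752
import Cfsg.Agent.SpGeom.Basic
import Cfsg.Agent.Forms.Unitary

/-!
Groups preserving a non-degenerate alternating form as subgroups of the symplectic group,
and the restriction of scalars.
-/

set_option autoImplicit false

open Matrix

namespace CfsgLib.Forms

variable {F V : Type*} [Field F] [AddCommGroup V] [Module F V] [FiniteDimensional F V]

/-- Coordinates carrying a non-degenerate alternating form to `sympForm`. -/
theorem exists_symp_coord {n : ℕ} (hV : Module.finrank F V = 2 * n) (B : LinearMap.BilinForm F V)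
    (hA : B.IsAlt) (hB : B.SeparatingLeft) :
    ∃ g : V ≃ₗ[F] (Fin n ⊕ Fin n → F), ∀ u v, Cfsg.sympForm n F (g u) (g v) = B u v := by
  classical
  obtain ⟨m, k, b, hef, hee, hff, hrad⟩ := Cfsg.Agent.S0752.result B hA
  have hk : k = 0 := by
    rcases Nat.eq_zero_or_pos k with h | h
    · exact h
    · exact absurd (hB _ (hrad ⟨0, h⟩)) (b.ne_zero _)
  subst hk
  have hm : m = n := by
    have := Module.finrank_eq_card_basis b
    rw [hV] at this
    simp at this
    omega
  subst hm
  let b' : Module.Basis (Fin m ⊕ Fin m) F V :=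
    b.reindex ((Equiv.sumEmpty _ _).trans (Equiv.sumComm _ _))
  refine ⟨b'.equivFun, fun u v => ?_⟩
  have hb : ∀ i, b' (Sum.inr i) = b (Sum.inl (Sum.inl i)) ∧ b' (Sum.inl i) = b (Sum.inl (Sum.inr i)) := fun i => by
    constructor <;> simp [b', Equiv.sumEmpty_symm_apply]
  have hfe : ∀ i j, B (b (Sum.inl (Sum.inr i))) (b (Sum.inl (Sum.inl j))) = -(if j = i then 1 else 0) := fun i j => by
    rw [← hef, LinearMap.IsAlt.neg hA]
  conv_rhs => rw [← b'.sum_equivFun u, ← b'.sum_equivFun v]
  simp only [map_sum, map_smul, LinearMap.sum_apply, LinearMap.smul_apply, Fintype.sum_sum_type, map_add,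
    LinearMap.add_apply, smul_eq_mul, (hb _).1, (hb _).2, hef, hee, hff, hfe, mul_ite, mul_neg, mul_one, mul_zero,
    Finset.sum_ite_eq', Finset.mem_univ, if_true, Finset.sum_neg_distrib, Finset.sum_const_zero]
  rw [CfsgLib.SpGeom.form_def, Finset.sum_sub_distrib]
  simp [Finset.sum_ite_eq, mul_comm]
  ring

/-- A representation preserving a non-degenerate alternating form lands in the symplectic group. -/
theorem exists_symp_hom {n : ℕ} (hV : Module.finrank F V = 2 * n) (B : LinearMap.BilinForm F V)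
    (hA : B.IsAlt) (hB : B.SeparatingLeft) {M : Type*} [MulOneClass M] (ρ : M →* Module.End F V)
    (hρ : ∀ x u v, B (ρ x u) (ρ x v) = B u v) (hinj : Function.Injective ρ) :
    ∃ φ : M →* ↥(Matrix.symplecticGroup (Fin n) F), Function.Injective φ := by
  obtain ⟨g, hg⟩ := exists_symp_coord hV B hA hB
  let c : M → ((Fin n ⊕ Fin n → F) →ₗ[F] (Fin n ⊕ Fin n → F)) := fun x =>
    (g : V →ₗ[F] _) ∘ₗ ρ x ∘ₗ (g.symm : (Fin n ⊕ Fin n → F) →ₗ[F] V)
  let ψ : M →* Matrix (Fin n ⊕ Fin n) (Fin n ⊕ Fin n) F :=
    { toFun := fun x => LinearMap.toMatrix' (c x)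
      map_one' := by
        rw [show c 1 = LinearMap.id from LinearMap.ext fun v => by simp [c], LinearMap.toMatrix'_id]
      map_mul' := fun x y => by
        rw [show c (x * y) = c x ∘ₗ c y from LinearMap.ext fun v => by simp [c, map_mul],
          LinearMap.toMatrix'_comp] }
  have hψ : ∀ x v, ψ x *ᵥ v = g (ρ x (g.symm v)) := fun x v => LinearMap.toMatrix'_mulVec (c x) v
  refine ⟨ψ.codRestrict _ fun x => CfsgLib.SpGeom.mem_of_form fun u v => ?_, fun x y h => ?_⟩
  · rw [hψ, hψ, hg, hρ]
    conv_rhs => rw [← g.apply_symm_apply u, ← g.apply_symm_apply v, hg]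
  · refine hinj (LinearMap.ext fun v => g.injective ?_)
    have h1 : ψ x = ψ y := congrArg Subtype.val h
    have h2 := hψ x (g v)
    rw [h1, hψ, g.symm_apply_apply] at h2
    exact h2.symm

end CfsgLib.Forms
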