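import Cfsg.Agent.Forms.Standard
import Mathlib

/-!
Quadratic forms over the field of two elements with a given non-degenerate polar form:
the two types and their numbers.
-/

set_option autoImplicit false

open QuadraticMap

namespace CfsgLib.Forms

theorem eq_of_basis {R M ι : Type*} [CommRing R] [AddCommGroup M] [Module R M] [Fintype ι]
    {Q Q' : QuadraticForm R M} (b : Module.Basis ι R M) (h : ∀ i, Q (b i) = Q' (b i))
    (hp : ∀ i j, polar Q (b i) (b j) = polar Q' (b i) (b j)) : Q = Q' := by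
  have hpol : polarBilin Q = polarBilin Q' := LinearMap.BilinForm.ext_basis b fun i j => hp i j
  have hadd : ∀ u v, Q (u + v) - Q' (u + v) = (Q u - Q' u) + (Q v - Q' v) := fun u v => by
    have h1 : polar Q u v = polar Q' u v := by
      rw [← polarBilin_apply_apply, ← polarBilin_apply_apply, hpol]
    simp only [polar] at h1
    linear_combination h1
  ext v
  refine sub_eq_zero.1 ?_
  rw [← b.sum_repr v]
  refine Finset.sum_induction _ (fun x => Q x - Q' x = 0)
    (fun x y hx hy => by rw [hadd, hx, hy, add_zero]) (by simp) fun i _ => ?_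
  rw [QuadraticMap.map_smul, QuadraticMap.map_smul, h, sub_self]

namespace Arf

variable {m : ℕ}

/-- The space. -/
abbrev Sp2 (m : ℕ) := Fin m ⊕ Fin m → ZMod 2

/-- The hyperbolic form. -/
abbrev q0 (m : ℕ) : QuadraticForm (ZMod 2) (Sp2 m) := quadPlus (ZMod 2) m

theorem zmod_two_sq : ∀ a : ZMod 2, a * a = a := by decide

/-- The form `q0 + f(·, w)`. -/
noncomputable def twist (w : Sp2 m) : QuadraticForm (ZMod 2) (Sp2 m) :=
  q0 m + linMulLin (polarBilin (q0 m) w) (polarBilin (q0 m) w)

theorem twist_apply (w v : Sp2 m) : twist w v = q0 m v + polar (q0 m) v w := by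
  show q0 m v + polar (q0 m) w v * polar (q0 m) w v = _
  rw [zmod_two_sq, polar_comm]

theorem twist_add (w u v : Sp2 m) : twist w (u + v) = twist w u + twist w v + polar (q0 m) u v := by
  simp only [twist_apply, polar_add_left, QuadraticMap.map_add (⇑(q0 m)) u v]
  abel

theorem polarBilin_twist (w : Sp2 m) : polarBilin (twist w) = polarBilin (q0 m) :=
  LinearMap.ext fun u => LinearMap.ext fun v => by
    rw [polarBilin_apply_apply, polarBilin_apply_apply, polar, twist_add]
    abel

/-- The functions polarizing to the given form. -/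
def Polarizes (q : Sp2 m → ZMod 2) : Prop :=
  ∀ u v, q (u + v) = q u + q v +
    (Cfsg.quadFormPlus m (ZMod 2) (u + v) - Cfsg.quadFormPlus m (ZMod 2) u - Cfsg.quadFormPlus m (ZMod 2) v)

theorem polarizes_twist (w : Sp2 m) : Polarizes (⇑(twist w)) := fun u v => by
  rw [twist_add]
  simp [polar]

theorem twist_injective : Function.Injective fun w : Sp2 m => ⇑(twist w) := by
  intro a b h
  have : ∀ v, polar (q0 m) v (a - b) = 0 := fun v => by
    have := congrFun h v
    simp only [twist_apply, add_right_inj] at this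
    rw [polar_sub_right, this, sub_self]
  exact sub_eq_zero.1 ((nondegenerate_quadPlus m).2 (a - b) fun v => this v)

theorem exists_twist {q : Sp2 m → ZMod 2} (hq : Polarizes q) : ∃ w, ⇑(twist w) = q := by
  let L : Module.Dual (ZMod 2) (Sp2 m) := AddMonoidHom.toZModLinearMap 2
    (AddMonoidHom.mk' (fun v => q v - Cfsg.quadFormPlus m (ZMod 2) v) fun u v => by
      rw [hq u v]; abel)
  refine ⟨(LinearMap.BilinForm.toDual _ (nondegenerate_quadPlus m)).symm L, funext fun v => ?_⟩
  rw [twist_apply, polar_comm]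
  have := LinearMap.BilinForm.apply_toDual_symm_apply (hB := nondegenerate_quadPlus (F := ZMod 2) m) L v
  rw [← polarBilin_apply_apply, this, coe_quadPlus]
  show _ + (q v - _) = _
  abel

/-- Plus type. -/
def IsPlus (q : Sp2 m → ZMod 2) : Prop :=
  ∃ g : Sp2 m ≃ₗ[ZMod 2] Sp2 m, ∀ v, q v = Cfsg.quadFormPlus m (ZMod 2) (g v)

/-- Minus type. -/
def IsMinus (q : Sp2 m → ZMod 2) : Prop :=
  ∃ g : Sp2 m ≃ₗ[ZMod 2] ((Fin (m - 1) ⊕ Fin (m - 1)) ⊕ Fin 2 → ZMod 2),
    ∀ v, q v = Cfsg.quadFormMinus (m - 1) (ZMod 2) 1 1 (g v)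

theorem equivFun_single {R M ι : Type*} [CommRing R] [AddCommGroup M] [Module R M] [Fintype ι] [DecidableEq ι]
    (b : Module.Basis ι R M) (i : ι) : b.equivFun (b i) = Pi.single i 1 := by
  funext j
  rw [b.equivFun_self, Pi.single_apply]
  simp [eq_comm]

theorem plus_or_minus (hm : 1 ≤ m) (w : Sp2 m) : IsPlus ⇑(twist w) ∨ IsMinus ⇑(twist w) := by
  classical
  have hQ : (polarBilin (twist w)).Nondegenerate := by
    rw [polarBilin_twist]; exact nondegenerate_quadPlus m
  rcases exists_basis_even hm (by simp; omega) hQ with ⟨e, f, b, h, hb⟩ | ⟨e, f, x, y, b, h, hx, hy, hx1, hxy, ht, hb⟩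
  · refine Or.inl ⟨b.equivFun, fun v => ?_⟩
    have : twist w = (q0 m).comp (b.equivFun : Sp2 m →ₗ[ZMod 2] Sp2 m) := by
      refine eq_of_basis b (fun i => ?_) (fun i j => ?_)
      · rw [QuadraticMap.comp_apply, LinearEquiv.coe_coe, equivFun_single, hb]
        rcases i with i | i <;> simp [h.qe, h.qf, Cfsg.quadFormPlus, Pi.single_apply]
      · have e1 : polar ⇑((q0 m).comp (b.equivFun : Sp2 m →ₗ[ZMod 2] Sp2 m)) (b i) (b j) =
            polar (Cfsg.quadFormPlus m (ZMod 2)) (b.equivFun (b i)) (b.equivFun (b j)) := by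
          simp [polar]
        rw [e1, polar_plus, equivFun_single, equivFun_single, hb]
        rcases i with i | i <;> rcases j with j | j <;>
          simp [h.ee, h.ff, h.ef, polar_comm _ (f _) (e _), Pi.single_apply, eq_comm]
    rw [this]; simp
  · refine Or.inr ⟨b.equivFun, fun v => ?_⟩
    rw [mem_perp_pairSpan] at hx hy
    have hqy : twist w y = 1 := by
      have h1 := ht 0
      revert h1
      generalize twist w y = a
      revert a; decide
    have : twist w = (quadMinus (ZMod 2) (m - 1) 1 1).comp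
        (b.equivFun : Sp2 m →ₗ[ZMod 2] ((Fin (m - 1) ⊕ Fin (m - 1)) ⊕ Fin 2 → ZMod 2)) := by
      refine eq_of_basis b (fun i => ?_) (fun i j => ?_)
      · rw [QuadraticMap.comp_apply, LinearEquiv.coe_coe, equivFun_single, hb]
        rcases i with (i | i) | i
        · simp [h.qe, Cfsg.quadFormMinus, Pi.single_apply]
        · simp [h.qf, Cfsg.quadFormMinus, Pi.single_apply]
        · fin_cases i <;> simp [hx1, hqy, Cfsg.quadFormMinus, Pi.single_apply]
      · have e1 : polar ⇑((quadMinus (ZMod 2) (m - 1) 1 1).comp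
            (b.equivFun : Sp2 m →ₗ[ZMod 2] ((Fin (m - 1) ⊕ Fin (m - 1)) ⊕ Fin 2 → ZMod 2))) (b i) (b j) =
            polar (Cfsg.quadFormMinus (m - 1) (ZMod 2) 1 1) (b.equivFun (b i)) (b.equivFun (b j)) := by
          simp [polar]
        rw [e1, polar_minus, equivFun_single, equivFun_single, hb]
        have htwo : (2 : ZMod 2) = 0 := rfl
        have hc := polar_comm (⇑(twist w))
        rcases i with (i | i) | i <;> rcases j with (j | j) | j
        all_goals (try fin_cases i) <;> (try fin_cases j)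
        all_goals
          simp [h.ee, h.ff, h.ef, hx.1, hx.2, hy.1, hy.2, hc (e _) x, hc (f _) x, hc (e _) y, hc (f _) y,
            hc (f _) (e _), hxy, hc y x, polar_self, htwo, Pi.single_apply, eq_comm]
    rw [this]; simp

theorem zmod_two_cases : ∀ a : ZMod 2, a = 0 ∨ a = 1 := by decide

/-- The sign of a value. -/
def sgn (a : ZMod 2) : ℤ := if a = 0 then 1 else -1

theorem sgn_sum {ι : Type*} (s : Finset ι) (a : ι → ZMod 2) : sgn (∑ i ∈ s, a i) = ∏ i ∈ s, sgn (a i) := by
  have h : ∀ a b : ZMod 2, sgn (a + b) = sgn a * sgn b := by decide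
  classical
  induction s using Finset.induction_on with
  | empty => simp [sgn]
  | insert x s hx ih => rw [Finset.sum_insert hx, Finset.prod_insert hx, h, ih]

theorem two_mul_card_zero : 2 * Nat.card {v : Sp2 m // q0 m v = 0} = 2 ^ (2 * m) + 2 ^ m := by
  classical
  have hs : ∑ v : Sp2 m, sgn (q0 m v) = 2 ^ m := by
    let e : Sp2 m ≃ (Fin m → ZMod 2 × ZMod 2) :=
      { toFun := fun v i => (v (.inl i), v (.inr i))
        invFun := fun p => Sum.elim (fun i => (p i).1) (fun i => (p i).2)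
        left_inv := fun v => by funext j; rcases j with j | j <;> rfl
        right_inv := fun p => rfl }
    rw [← e.symm.sum_comp]
    have : ∀ p : Fin m → ZMod 2 × ZMod 2, sgn (q0 m (e.symm p)) = ∏ i, sgn ((p i).1 * (p i).2) := fun p => by
      rw [coe_quadPlus, Cfsg.quadFormPlus, sgn_sum]; rfl
    simp only [this]
    rw [← Fintype.prod_sum (fun (_ : Fin m) (z : ZMod 2 × ZMod 2) => sgn (z.1 * z.2)), Finset.prod_const,
      Finset.card_univ, Fintype.card_fin]
    rfl
  have h1 : ∑ v : Sp2 m, (sgn (q0 m v) + 1) = ∑ v ∈ Finset.univ.filter (fun v : Sp2 m => q0 m v = 0), (2 : ℤ) := by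
    rw [Finset.sum_filter]
    refine Finset.sum_congr rfl fun v _ => ?_
    unfold sgn
    split_ifs <;> norm_num
  rw [Finset.sum_add_distrib, hs, Finset.sum_const, Finset.sum_const, Finset.card_univ, nsmul_eq_mul,
    nsmul_eq_mul, mul_one] at h1
  have hN : Fintype.card (Sp2 m) = 2 ^ (2 * m) := by simp [two_mul]
  rw [hN] at h1
  rw [Nat.card_eq_fintype_card, Fintype.card_subtype]
  push_cast at h1
  zify
  linarith

theorem card_zero (hm : 1 ≤ m) : Nat.card {v : Sp2 m // q0 m v = 0} = 2 ^ (2 * m - 1) + 2 ^ (m - 1) := by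
  have h := two_mul_card_zero (m := m)
  obtain ⟨k, rfl⟩ : ∃ k, m = k + 1 := ⟨m - 1, by omega⟩
  simp only [show 2 * (k + 1) - 1 = 2 * k + 1 by omega, Nat.add_sub_cancel]
  ring_nf at h ⊢
  omega

theorem card_ne_zero (hm : 1 ≤ m) : Nat.card {v : Sp2 m // q0 m v ≠ 0} = 2 ^ (2 * m - 1) - 2 ^ (m - 1) := by
  classical
  have h1 := card_zero hm
  rw [Nat.card_eq_fintype_card] at h1 ⊢
  rw [Fintype.card_subtype_compl, h1]
  have hN : Fintype.card (Sp2 m) = 2 ^ (2 * m) := by simp [two_mul]
  rw [hN, show 2 ^ (2 * m) = 2 ^ (2 * m - 1) + 2 ^ (2 * m - 1) by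
    obtain ⟨k, rfl⟩ : ∃ k, m = k + 1 := ⟨m - 1, by omega⟩
    rw [show 2 * (k + 1) - 1 = 2 * k + 1 by omega]; ring]
  omega

/-- The transvection carrying `Q` to `Q + f(·, w)` when `Q w = 0`. -/
theorem exists_transvection {Q : QuadraticForm (ZMod 2) (Sp2 m)} {w : Sp2 m} (hw : Q w = 0) :
    ∃ g : Sp2 m ≃ₗ[ZMod 2] Sp2 m, ∀ v, Q (g v) = Q v + polar Q v w := by
  have hww : polarBilin Q w w = 0 := by rw [polarBilin_apply_apply, polar_self, hw, smul_zero]
  refine ⟨LinearEquiv.transvection hww, fun v => ?_⟩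
  rw [LinearEquiv.transvection.apply, QuadraticMap.map_add (⇑Q), QuadraticMap.map_smul, hw,
    polar_smul_right, polarBilin_apply_apply, polar_comm Q w v, smul_zero, add_zero, smul_eq_mul, zmod_two_sq]

theorem isPlus_twist_iff (hm : 1 ≤ m) (w : Sp2 m) : IsPlus ⇑(twist w) ↔ q0 m w = 0 := by
  constructor
  · rintro ⟨g, hg⟩
    by_contra hne
    have hone : q0 m w = 1 := (zmod_two_cases _).resolve_left hne
    have e1 : Nat.card {v : Sp2 m // twist w v = 0} = Nat.card {v : Sp2 m // q0 m v = 0} :=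
      Nat.card_congr (g.toEquiv.subtypeEquiv fun v => by rw [hg v, coe_quadPlus]; rfl)
    have e2 : Nat.card {v : Sp2 m // twist w v = 0} = Nat.card {v : Sp2 m // q0 m v ≠ 0} := by
      refine Nat.card_congr ((Equiv.addRight w).subtypeEquiv fun v => ?_)
      show _ ↔ q0 m (v + w) ≠ 0
      rw [twist_apply, QuadraticMap.map_add (⇑(q0 m)) v w, hone]
      generalize q0 m v = a; generalize polar (⇑(q0 m)) v w = b
      revert a b; decide
    rw [e1, card_zero hm, card_ne_zero hm] at e2
    have := Nat.two_pow_pos (m - 1)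
    generalize 2 ^ (m - 1) = p at e2 this
    generalize 2 ^ (2 * m - 1) = r at e2
    omega
  · intro h
    obtain ⟨g, hg⟩ := exists_transvection (Q := q0 m) h
    exact ⟨g, fun v => by rw [← coe_quadPlus, hg, twist_apply]⟩

theorem isMinus_twist_iff (hm : 1 ≤ m) (w : Sp2 m) : IsMinus ⇑(twist w) ↔ q0 m w ≠ 0 := by
  refine ⟨fun hmin h => ?_, fun h => (plus_or_minus hm w).resolve_left fun hp => h ((isPlus_twist_iff hm w).1 hp)⟩
  obtain ⟨g, hg⟩ := (isPlus_twist_iff hm w).2 h
  obtain ⟨g', hg'⟩ := hmin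
  let S : Submodule (ZMod 2) (Sp2 m) :=
    LinearMap.ker (LinearMap.funLeft (ZMod 2) (ZMod 2) (Sum.inr : Fin m → Fin m ⊕ Fin m))
  have hS : Module.finrank (ZMod 2) S = m := by
    have hs : Function.Surjective (LinearMap.funLeft (ZMod 2) (ZMod 2) (Sum.inr : Fin m → Fin m ⊕ Fin m)) :=
      fun w => ⟨Sum.elim 0 w, funext fun i => rfl⟩
    have := LinearMap.finrank_range_add_finrank_ker
      (LinearMap.funLeft (ZMod 2) (ZMod 2) (Sum.inr : Fin m → Fin m ⊕ Fin m))
    rw [LinearMap.range_eq_top.2 hs, finrank_top] at this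
    change _ + Module.finrank (ZMod 2) S = _ at this
    simp at this
    omega
  have hab : ∀ z₁ z₂ : ZMod 2, z₁ ^ 2 + 1 * z₁ * z₂ + 1 * z₂ ^ 2 = 0 → z₁ = 0 ∧ z₂ = 0 := by decide
  let e := g.symm ≪≫ₗ g'
  have := finrank_le_of_singular_minus (m := m - 1) hab (U := S.map (e : Sp2 m →ₗ[ZMod 2] _)) (by
    rintro _ ⟨u, hu, rfl⟩
    have hu0 : ∀ i, u (Sum.inr i) = 0 := fun i => congrFun (LinearMap.mem_ker.1 hu) i
    show Cfsg.quadFormMinus (m - 1) (ZMod 2) 1 1 (g' (g.symm u)) = 0
    rw [← hg', hg, g.apply_symm_apply]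
    simp [Cfsg.quadFormPlus, hu0])
  rw [LinearEquiv.finrank_map_eq, hS] at this
  omega

/-- The parametrisation. -/
noncomputable def equivPolarizes : Sp2 m ≃ {q : Sp2 m → ZMod 2 // Polarizes q} :=
  Equiv.ofBijective (fun w => ⟨_, polarizes_twist w⟩)
    ⟨fun _ _ h => twist_injective (congrArg Subtype.val h),
      fun q => (exists_twist q.2).imp fun _ h => Subtype.ext h⟩

theorem card_polarizes_and (R : (Sp2 m → ZMod 2) → Prop) :
    Nat.card {q : Sp2 m → ZMod 2 // Polarizes q ∧ R q} = Nat.card {w : Sp2 m // R ⇑(twist w)} :=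
  Nat.card_congr (((equivPolarizes (m := m)).subtypeEquiv (q := fun q => R q.1) fun _ => Iff.rfl).trans
    (Equiv.subtypeSubtypeEquivSubtypeInter _ R)).symm

end Arf

end CfsgLib.Forms
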