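import Cfsg.Agent.Forms.Arf
import Cfsg.Agent.Forms.Witt

/-!
The two types of even-dimensional non-degenerate quadratic spaces over a finite field.
-/

set_option autoImplicit false

open QuadraticMap

namespace CfsgLib.Forms

variable {F V W : Type*} [Field F] [AddCommGroup V] [Module F V] [AddCommGroup W] [Module F W]

theorem isometry_of_bases {ι : Type*} [Fintype ι] {Q : QuadraticForm F V} {Q' : QuadraticForm F W}
    (b : Module.Basis ι F V) (b' : Module.Basis ι F W) (h : ∀ i, Q' (b' i) = Q (b i))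
    (hp : ∀ i j, polar Q' (b' i) (b' j) = polar Q (b i) (b j)) :
    ∃ g : V ≃ₗ[F] W, ∀ v, Q' (g v) = Q v := by
  let g := b.equiv b' (Equiv.refl _)
  have hg : ∀ i, g (b i) = b' i := fun i => by simp [g]
  have : Q'.comp (g : V →ₗ[F] W) = Q := by
    refine eq_of_basis b (fun i => by simp [hg, h]) fun i j => ?_
    simp only [polar, QuadraticMap.comp_apply, LinearEquiv.coe_coe, map_add, hg]
    exact hp i j
  exact ⟨g, fun v => DFunLike.congr_fun this v⟩

/-- Two irreducible `t² + t + c` differ by a change of variable. -/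
theorem exists_change [Finite F] {c c₀ : F} (hc : ∀ t : F, t ^ 2 + t + c ≠ 0)
    (hc₀ : ∀ t : F, t ^ 2 + t + c₀ ≠ 0) :
    ∃ s u : F, u ≠ 0 ∧ 2 * s + u = 1 ∧ s ^ 2 + s * u + c₀ * u ^ 2 = c := by
  classical
  by_cases h2 : (2 : F) = 0
  · let f : F →+ F := AddMonoidHom.mk' (fun s => s ^ 2 + s) fun a b => by
      linear_combination (a * b) * h2
    have hker : Nat.card f.ker = 2 := by
      rw [Nat.card_eq_two_iff]
      refine ⟨⟨0, by simp [f]⟩, ⟨1, by
        show (1 : F) ^ 2 + 1 = 0
        linear_combination h2⟩, fun h => zero_ne_one (congrArg Subtype.val h), ?_⟩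
      ext ⟨x, hx⟩
      simp only [Set.mem_insert_iff, Set.mem_singleton_iff, Set.mem_univ, iff_true, Subtype.mk.injEq]
      have hx' : x * (x + 1) = 0 := by
        have : x ^ 2 + x = 0 := hx
        linear_combination this
      refine (mul_eq_zero.1 hx').imp id fun h => ?_
      linear_combination h - h2
    have hidx : f.range.index = 2 := by
      have h1 := f.ker.card_eq_card_quotient_mul_card_addSubgroup
      rw [Nat.card_congr (QuotientAddGroup.quotientKerEquivRange f).toEquiv, hker] at h1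
      have h3 := f.range.card_mul_index
      have h4 : 0 < Nat.card f.range := Nat.card_pos
      nlinarith
    have hmem : c - c₀ ∈ f.range := by
      rw [sub_eq_add_neg, AddSubgroup.add_mem_iff_of_index_two hidx]
      refine iff_of_false ?_ ?_
      · rintro ⟨t, ht⟩
        exact hc t (by
          have : t ^ 2 + t = c := ht
          linear_combination this + c * h2)
      · rintro ⟨t, ht⟩
        exact hc₀ t (by
          have : t ^ 2 + t = -c₀ := ht
          linear_combination this)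
    obtain ⟨s, hs⟩ := hmem
    refine ⟨s, 1, one_ne_zero, by linear_combination s * h2, ?_⟩
    have : s ^ 2 + s = c - c₀ := hs
    linear_combination this
  · have := Fintype.ofFinite F
    have key : ∀ a : F, (∀ t : F, t ^ 2 + t + a ≠ 0) → ¬ IsSquare (1 - 4 * a) := by
      rintro a ha ⟨r, hr⟩
      exact ha ((r - 1) / 2) (by field_simp; linear_combination -hr)
    have hne : ∀ a : F, (∀ t : F, t ^ 2 + t + a ≠ 0) → (1 - 4 * a) ≠ 0 := fun a ha h =>
      key a ha (by rw [h]; exact IsSquare.zero)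
    have hsq : IsSquare ((1 - 4 * c) / (1 - 4 * c₀)) := by
      have e1 : quadraticChar F (1 - 4 * c) = -1 :=
        (quadraticChar_dichotomy (hne c hc)).resolve_left fun h =>
          key c hc ((quadraticChar_one_iff_isSquare (hne c hc)).1 h)
      have e2 : quadraticChar F (1 - 4 * c₀) = -1 :=
        (quadraticChar_dichotomy (hne c₀ hc₀)).resolve_left fun h =>
          key c₀ hc₀ ((quadraticChar_one_iff_isSquare (hne c₀ hc₀)).1 h)
      refine (quadraticChar_one_iff_isSquare (div_ne_zero (hne c hc) (hne c₀ hc₀))).1 ?_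
      have e3 := congrArg (quadraticChar F) (div_mul_cancel₀ (1 - 4 * c) (hne c₀ hc₀))
      rw [map_mul, e1, e2] at e3
      omega
    obtain ⟨u, hu⟩ := hsq
    rw [div_eq_iff (hne c₀ hc₀)] at hu
    refine ⟨(1 - u) / 2, u, fun h => hne c hc (by rw [hu, h]; ring), by field_simp; ring, ?_⟩
    field_simp
    linear_combination hu

variable [Finite F] [FiniteDimensional F V] [FiniteDimensional F W]

/-- A normal elliptic basis. -/
def HasEllipticBasis (Q : QuadraticForm F V) (m : ℕ) (c : F) : Prop :=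
  ∃ (e f : Fin m → V) (x y : V) (b : Module.Basis ((Fin m ⊕ Fin m) ⊕ Fin 2) F V),
    IsHyp Q e f ∧ x ∈ perp Q (pairSpan e f) ∧ y ∈ perp Q (pairSpan e f) ∧ Q x = 1 ∧ polar Q x y = 1 ∧
      Q y = c ∧ ⇑b = Sum.elim (Sum.elim e f) ![x, y]

omit [Finite F] [FiniteDimensional F V] [FiniteDimensional F W] in
theorem isometry_of_elliptic {Q : QuadraticForm F V} {Q' : QuadraticForm F W} {m : ℕ} {c : F}
    (h : HasEllipticBasis Q m c) (h' : HasEllipticBasis Q' m c) :
    ∃ g : V ≃ₗ[F] W, ∀ v, Q' (g v) = Q v := by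
  obtain ⟨e, f, x, y, b, hh, hx, hy, hx1, hxy, hqy, hb⟩ := h
  obtain ⟨e', f', x', y', b', hh', hx', hy', hx1', hxy', hqy', hb'⟩ := h'
  rw [mem_perp_pairSpan] at hx hy hx' hy'
  refine isometry_of_bases b b' (fun i => ?_) fun i j => ?_ <;> rw [hb, hb']
  · rcases i with (i | i) | i
    · simp [hh.qe, hh'.qe]
    · simp [hh.qf, hh'.qf]
    · fin_cases i <;> simp [hx1, hx1', hqy, hqy']
  · have hc := polar_comm (⇑Q)
    have hc' := polar_comm (⇑Q')
    rcases i with (i | i) | i <;> rcases j with (j | j) | j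
    all_goals (try fin_cases i) <;> (try fin_cases j)
    all_goals
      simp [hh.ee, hh.ff, hh.ef, hh'.ee, hh'.ff, hh'.ef, hx.1, hx.2, hy.1, hy.2, hx'.1, hx'.2, hy'.1, hy'.2,
        hc (e _) x, hc (f _) x, hc (e _) y, hc (f _) y, hc (f _) (e _), hc y x,
        hc' (e' _) x', hc' (f' _) x', hc' (e' _) y', hc' (f' _) y', hc' (f' _) (e' _), hc' y' x',
        hxy, hxy', hx1, hx1', hqy, hqy', polar_self]

theorem HasEllipticBasis.change {Q : QuadraticForm F V} {m : ℕ} {c₀ c : F}
    (h : HasEllipticBasis Q m c₀) (hc₀ : ∀ t : F, t ^ 2 + t + c₀ ≠ 0) (hc : ∀ t : F, t ^ 2 + t + c ≠ 0) :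
    HasEllipticBasis Q m c := by
  obtain ⟨e, f, x, y, b, hh, hx, hy, hx1, hxy, hqy, hb⟩ := h
  obtain ⟨s, u, hu, hsu, hval⟩ := exists_change hc hc₀
  set y' := s • x + u • y with hy'
  have hy'm : y' ∈ perp Q (pairSpan e f) := add_mem (Submodule.smul_mem _ _ hx) (Submodule.smul_mem _ _ hy)
  have hxy' : polar Q x y' = 1 := by
    rw [hy', polar_add_right, polar_smul_right, polar_smul_right, polar_self, hx1, hxy]
    simp only [smul_eq_mul, nsmul_eq_mul, Nat.cast_ofNat]
    linear_combination hsu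
  have hqy' : Q y' = c := by
    rw [hy', map_add_smul, QuadraticMap.map_smul, polar_smul_left, hx1, hxy, hqy]
    simp only [smul_eq_mul]
    linear_combination hval
  have hli : LinearIndependent F ![x, y] := by
    have := b.linearIndependent.comp (Sum.inr : Fin 2 → _) Sum.inr_injective
    rw [hb] at this
    exact this
  have hli' : LinearIndependent F ![x, y'] := by
    rw [LinearIndependent.pair_iff] at hli ⊢
    intro a b' hab
    obtain ⟨h1, h2⟩ := hli (a + b' * s) (b' * u) (by rw [← hab, hy']; module)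
    have hb0 : b' = 0 := (mul_eq_zero.1 h2).resolve_right hu
    exact ⟨by simpa [hb0] using h1, hb0⟩
  obtain ⟨b', hb'⟩ := hh.exists_basis ![x, y'] (fun i => by fin_cases i <;> simp [hx, hy'm]) hli'
    (by have := Module.finrank_eq_card_basis b; simp at this ⊢; omega)
  exact ⟨e, f, x, y', b', hh, hx, hy'm, hx1, hxy', hqy', hb'⟩

theorem exists_singular_or_elliptic {Q : QuadraticForm F V} {m : ℕ} (hm : 1 ≤ m)
    (hV : Module.finrank F V = 2 * m) (hQ : (polarBilin Q).Nondegenerate) :
    (∃ b : Module.Basis (Fin m ⊕ Fin m) F V, (∀ i, Q (b i) = 0) ∧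
      ∀ i j, polar Q (b i) (b j) = polar (quadPlus F m) (Pi.single i 1) (Pi.single j 1)) ∨
    ∃ c : F, (∀ t : F, t ^ 2 + t + c ≠ 0) ∧ HasEllipticBasis Q (m - 1) c := by
  rcases exists_basis_even hm hV hQ with ⟨e, f, b, h, hb⟩ | ⟨e, f, x, y, b, h, hx, hy, hx1, hxy, ht, hb⟩
  · refine Or.inl ⟨b, fun i => ?_, fun i j => ?_⟩ <;> rw [hb]
    · rcases i with i | i <;> simp [h.qe, h.qf]
    · rcases i with i | i <;> rcases j with j | j <;>
        simp [h.ee, h.ff, h.ef, polar_comm _ (f _) (e _), polar_plus, Pi.single_apply, eq_comm]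
  · exact Or.inr ⟨Q y, ht, e, f, x, y, b, h, hx, hy, hx1, hxy, rfl, hb⟩

theorem anis_of_irred {c : F} (hc : ∀ t : F, t ^ 2 + t + c ≠ 0) :
    ∀ z₁ z₂ : F, z₁ ^ 2 + 1 * z₁ * z₂ + c * z₂ ^ 2 = 0 → z₁ = 0 ∧ z₂ = 0 := by
  intro z₁ z₂ h
  by_cases hz : z₂ = 0
  · subst hz
    simpa using h
  · exact absurd (by field_simp; linear_combination h) (hc (z₁ / z₂))

omit [Finite F] in
theorem standard_elliptic (m : ℕ) (c : F) : HasEllipticBasis (quadMinus F m 1 c) m c := by
  refine ⟨fun i => Pi.single (Sum.inl (Sum.inl i)) 1, fun i => Pi.single (Sum.inl (Sum.inr i)) 1,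
    Pi.single (Sum.inr 0) 1, Pi.single (Sum.inr 1) 1, Pi.basisFun F _, ?_, ?_, ?_, ?_, ?_, ?_, ?_⟩
  · constructor <;> intro i <;>
      first
        | (simp [Cfsg.quadFormMinus, Pi.single_apply]; done)
        | (intro j; simp [polar_minus, Pi.single_apply, eq_comm])
  · rw [mem_perp_pairSpan]; constructor <;> intro i <;> simp [polar_minus, Pi.single_apply]
  · rw [mem_perp_pairSpan]; constructor <;> intro i <;> simp [polar_minus, Pi.single_apply]
  · simp [Cfsg.quadFormMinus, Pi.single_apply]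
  · simp [polar_minus, Pi.single_apply]
  · simp [Cfsg.quadFormMinus, Pi.single_apply]
  · funext k
    rcases k with (k | k) | k
    · simp
    · simp
    · fin_cases k <;> simp

theorem singular_of_hyperbolic {Q : QuadraticForm F V} {m : ℕ} (b : Module.Basis (Fin m ⊕ Fin m) F V)
    (h0 : ∀ i, Q (b i) = 0)
    (hp : ∀ i j, polar Q (b i) (b j) = polar (quadPlus F m) (Pi.single i 1) (Pi.single j 1)) :
    ∃ g : V ≃ₗ[F] (Fin m ⊕ Fin m → F), ∀ v, Cfsg.quadFormPlus m F (g v) = Q v := by
  obtain ⟨g, hg⟩ := isometry_of_bases (Q := Q) (Q' := quadPlus F m) b (Pi.basisFun F _)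
    (fun i => by rw [h0]; rcases i with i | i <;> simp [Cfsg.quadFormPlus, Pi.single_apply])
    (fun i j => by rw [Pi.basisFun_apply, Pi.basisFun_apply, hp])
  exact ⟨g, fun v => by rw [← coe_quadPlus]; exact hg v⟩

/-- With a singular subspace of half the dimension the space is hyperbolic. -/
theorem exists_isometry_plus {Q : QuadraticForm F V} {m : ℕ} (hm : 1 ≤ m)
    (hV : Module.finrank F V = 2 * m) (hQ : (polarBilin Q).Nondegenerate) (S : Submodule F V)
    (hS : ∀ v ∈ S, Q v = 0) (hSd : m ≤ Module.finrank F S) :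
    ∃ g : V ≃ₗ[F] (Fin m ⊕ Fin m → F), ∀ v, Cfsg.quadFormPlus m F (g v) = Q v := by
  rcases exists_singular_or_elliptic hm hV hQ with ⟨b, h0, hp⟩ | ⟨c, hc, h⟩
  · exact singular_of_hyperbolic b h0 hp
  · obtain ⟨g, hg⟩ := isometry_of_elliptic h (standard_elliptic (m - 1) c)
    have := finrank_le_of_singular_minus (m := m - 1) (anis_of_irred hc) (U := S.map (g : V →ₗ[F] _)) (by
      rintro _ ⟨u, hu, rfl⟩
      rw [← coe_quadMinus, LinearEquiv.coe_coe, hg]; exact hS u hu)
    rw [LinearEquiv.finrank_map_eq] at this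
    omega

omit [Finite F] in
theorem not_singular_half {Q : QuadraticForm F V} {m : ℕ} (b : Module.Basis (Fin m ⊕ Fin m) F V)
    (h0 : ∀ i, Q (b i) = 0)
    (hp : ∀ i j, polar Q (b i) (b j) = polar (quadPlus F m) (Pi.single i 1) (Pi.single j 1)) :
    ∃ S : Submodule F V, (∀ v ∈ S, Q v = 0) ∧ m ≤ Module.finrank F S := by
  refine ⟨Submodule.span F (Set.range (b ∘ Sum.inl)), fun v hv => ?_, ?_⟩
  · induction hv using Submodule.span_induction with
    | mem x hx => obtain ⟨i, rfl⟩ := hx; exact h0 _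
    | zero => exact QuadraticMap.map_zero Q
    | add x y hx hy hx0 hy0 =>
      rw [QuadraticMap.map_add (⇑Q), hx0, hy0, zero_add, zero_add]
      obtain ⟨a, rfl⟩ := (Submodule.mem_span_range_iff_exists_fun F).1 hx
      obtain ⟨d, rfl⟩ := (Submodule.mem_span_range_iff_exists_fun F).1 hy
      simp only [← polarBilin_apply_apply, map_sum, LinearMap.sum_apply, map_smul, LinearMap.smul_apply]
      refine Finset.sum_eq_zero fun i _ => Finset.smul_sum.trans (Finset.sum_eq_zero fun j _ => ?_)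
      simp only [polarBilin_apply_apply, Function.comp_apply, hp]
      simp [polar_plus, Pi.single_apply]
    | smul a x _ hx0 => rw [QuadraticMap.map_smul, hx0, smul_zero]
  · rw [finrank_span_eq_card (b.linearIndependent.comp _ Sum.inl_injective), Fintype.card_fin]

/-- Without such a subspace it is isometric to any elliptic form. -/
theorem exists_isometry_minus {Q : QuadraticForm F V} {m : ℕ} (hm : 1 ≤ m)
    (hV : Module.finrank F V = 2 * m) (hQ : (polarBilin Q).Nondegenerate)
    (hS : ¬ ∃ S : Submodule F V, (∀ v ∈ S, Q v = 0) ∧ m ≤ Module.finrank F S) {a b : F}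
    (hab : ∀ z₁ z₂ : F, z₁ ^ 2 + a * z₁ * z₂ + b * z₂ ^ 2 = 0 → z₁ = 0 ∧ z₂ = 0) :
    ∃ g : V ≃ₗ[F] ((Fin (m - 1) ⊕ Fin (m - 1)) ⊕ Fin 2 → F),
      ∀ v, Cfsg.quadFormMinus (m - 1) F a b (g v) = Q v := by
  rcases exists_singular_or_elliptic hm hV hQ with ⟨e, h0, hp⟩ | ⟨c, hc, h⟩
  · exact absurd (not_singular_half e h0 hp) hS
  have hd : Module.finrank F ((Fin (m - 1) ⊕ Fin (m - 1)) ⊕ Fin 2 → F) = 2 * m := by simp; omega
  rcases exists_singular_or_elliptic hm hd (nondegenerate_quadMinus (m - 1) hab) with ⟨e', h0, hp⟩ | ⟨c', hc', h'⟩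
  · obtain ⟨S, hS0, hSd⟩ := not_singular_half e' h0 hp
    have := finrank_le_of_singular_minus hab (U := S) (fun u hu => by rw [← coe_quadMinus]; exact hS0 u hu)
    omega
  obtain ⟨g, hg⟩ := isometry_of_elliptic h (h'.change hc' hc)
  exact ⟨g, fun v => by rw [← coe_quadMinus]; exact hg v⟩

end CfsgLib.Forms
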