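import Cfsg.Agent.Forms.Witt
import Cfsg.Agent.Forms.Spinor
import Cfsg.Agent.PCore.Basic
set_option autoImplicit false

/-!
A normal subgroup of odd order of an orthogonal group over a finite field of odd characteristic,
in dimension at least three, is trivial.
-/

namespace CfsgLib.Forms

open QuadraticMap

variable {F V : Type*} [Field F] [AddCommGroup V] [Module F V] {Q : QuadraticForm F V}

namespace OddNormal

/-- The product of the reflections in `x` and `y` lies in `M`. -/
def Rel (M : Subgroup (V ≃ₗ[F] V)) (Q : QuadraticForm F V) (x y : V) : Prop :=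
  ∃ (hx : Q x ≠ 0) (hy : Q y ≠ 0), refl Q x hx * refl Q y hy ∈ M

theorem refl_congr {u v : V} (hu : Q u ≠ 0) (hv : Q v ≠ 0) (h : u = v) : refl Q u hu = refl Q v hv := by
  subst h; rfl

theorem refl_mul_self {u : V} (hu : Q u ≠ 0) : refl Q u hu * refl Q u hu = 1 :=
  LinearEquiv.ext fun v => reflL_reflL hu v

theorem map_neg' (x : V) : Q (-x) = Q x := by
  rw [← neg_one_smul F x, QuadraticMap.map_smul]; simp

theorem refl_neg {u : V} (hu : Q u ≠ 0) (hu' : Q (-u) ≠ 0) : refl Q (-u) hu' = refl Q u hu := by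
  refine LinearEquiv.ext fun v => ?_
  rw [refl_apply, refl_apply, map_neg', polar_neg_right, mul_neg, neg_smul, smul_neg, neg_neg]

theorem conj_refl' {g : V ≃ₗ[F] V} (hg : g ∈ isom Q) {u : V} (hu : Q u ≠ 0) (hgu : Q (g u) ≠ 0) :
    g * refl Q u hu * g⁻¹ = refl Q (g u) hgu := by
  refine LinearEquiv.ext fun v => ?_
  change g (refl Q u hu (g.symm v)) = refl Q (g u) hgu v
  have h1 := hg u
  have h2 : polar Q (g.symm v) u = polar Q v (g u) := by
    rw [← isom_polar hg, LinearEquiv.apply_symm_apply]
  rw [refl_apply, refl_apply, map_sub, map_smul, LinearEquiv.apply_symm_apply, h1, h2]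

variable {M : Subgroup (V ≃ₗ[F] V)} {x y z : V}

theorem Rel.symm (h : Rel M Q x y) : Rel M Q y x := by
  obtain ⟨hx, hy, h⟩ := h
  refine ⟨hy, hx, ?_⟩
  have := M.inv_mem h
  rwa [mul_inv_rev, refl_inv, refl_inv] at this

theorem Rel.trans (h : Rel M Q x y) (h' : Rel M Q y z) : Rel M Q x z := by
  obtain ⟨hx, hy, h⟩ := h
  obtain ⟨hy', hz, h'⟩ := h'
  refine ⟨hx, hz, ?_⟩
  have := M.mul_mem h h'
  rwa [mul_assoc, ← mul_assoc (refl Q y hy), refl_mul_self hy, one_mul] at this

theorem Rel.neg_left (h : Rel M Q x y) : Rel M Q (-x) y := by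
  obtain ⟨hx, hy, h⟩ := h
  have hx' : Q (-x) ≠ 0 := by rwa [map_neg']
  exact ⟨hx', hy, by rw [refl_neg hx hx']; exact h⟩

theorem Rel.conj (hconj : ∀ g ∈ isom Q, ∀ m ∈ M, g * m * g⁻¹ ∈ M) {g : V ≃ₗ[F] V} (hg : g ∈ isom Q)
    (h : Rel M Q x y) : Rel M Q (g x) (g y) := by
  obtain ⟨hx, hy, h⟩ := h
  have hx' : Q (g x) ≠ 0 := by rwa [hg x]
  have hy' : Q (g y) ≠ 0 := by rwa [hg y]
  refine ⟨hx', hy', ?_⟩
  have := hconj g hg _ h
  rwa [show g * (refl Q x hx * refl Q y hy) * g⁻¹ = (g * refl Q x hx * g⁻¹) * (g * refl Q y hy * g⁻¹) by group,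
    conj_refl' hg hx hx', conj_refl' hg hy hy'] at this

/-- The axes of a related pair are not orthogonal. -/
theorem Rel.polar_ne (h2 : (2 : F) ≠ 0) (hodd : Odd (Nat.card M)) (h : Rel M Q x y) : polar Q x y ≠ 0 := by
  intro hb
  obtain ⟨hx, hy, h⟩ := h
  set m := refl Q x hx * refl Q y hy with hm
  have hm2 : ∀ v, m (m v) = v := fun v => by
    change refl Q x hx (refl Q y hy (refl Q x hx (refl Q y hy v))) = v
    simp only [refl_apply, polar_sub_left, polar_smul_left, polar_comm Q y x, hb, polar_self, map_sub, map_smul,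
      smul_eq_mul, mul_zero, sub_zero]
    match_scalars <;> field_simp <;> ring
  have hm1 : m ^ 2 = 1 := LinearEquiv.ext fun v => by rw [pow_two]; exact hm2 v
  have hne : m ≠ 1 := fun he => by
    have hv : m y = y := by rw [he]; rfl
    have hmy : m y = -y := by
      change refl Q x hx (refl Q y hy y) = -y
      simp only [refl_apply, polar_smul_left, polar_sub_left, polar_comm Q y x, hb, polar_self, smul_eq_mul]
      match_scalars <;> field_simp <;> ring
    rw [hmy, neg_eq_iff_add_eq_zero, ← two_smul F, smul_eq_zero] at hv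
    exact hy (by rw [hv.resolve_left h2, QuadraticMap.map_zero])
  haveI : Fact (Nat.Prime 2) := ⟨Nat.prime_two⟩
  have h2' := Subgroup.orderOf_dvd_natCard M h
  rw [orderOf_eq_prime hm1 hne] at h2'
  exact (Nat.not_even_iff_odd.2 hodd) (even_iff_two_dvd.2 h2')

theorem rel_of_mem (hconj : ∀ g ∈ isom Q, ∀ m ∈ M, g * m * g⁻¹ ∈ M) (hle : M ≤ isom Q) {m : V ≃ₗ[F] V}
    (hm : m ∈ M) {v : V} (hv : Q v ≠ 0) : Rel M Q (m v) v := by
  have hmv : Q (m v) ≠ 0 := by rwa [hle hm v]
  refine ⟨hmv, hv, ?_⟩
  rw [← conj_refl' (hle hm) hv hmv,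
    show m * refl Q v hv * m⁻¹ * refl Q v hv = m * (refl Q v hv * m⁻¹ * (refl Q v hv)⁻¹) by
      rw [refl_inv]; group]
  exact M.mul_mem hm (hconj _ (refl_mem_isom hv) _ (M.inv_mem hm))

/-- A singular vector orthogonal to `v` has a singular partner orthogonal to `v`. -/
theorem exists_partner_perp [FiniteDimensional F V] (hQ : (polarBilin Q).Nondegenerate) {v d : V}
    (hd0 : d ≠ 0) (hd : Q d = 0) (hdv : polar Q d v = 0) (hv : Q v ≠ 0) (h2 : (2 : F) ≠ 0) :
    ∃ f, Q f = 0 ∧ polar Q d f = 1 ∧ polar Q f v = 0 := by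
  obtain ⟨y, hy⟩ : ∃ y, polar Q d y ≠ 0 := by
    by_contra hno
    push Not at hno
    exact hd0 (polar_ext hQ hno)
  have hvv : polar Q v v ≠ 0 := by rw [polar_self, two_nsmul, ← two_mul]; exact mul_ne_zero h2 hv
  set y₁ := y - (polar Q y v / polar Q v v) • v with hy₁
  have h1 : polar Q y₁ v = 0 := by
    rw [hy₁, polar_sub_left, polar_smul_left, smul_eq_mul, div_mul_cancel₀ _ hvv, sub_self]
  have h3 : polar Q d y₁ = polar Q d y := by
    rw [hy₁, polar_sub_right, polar_smul_right, hdv, smul_zero, sub_zero]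
  set y₂ := (polar Q d y)⁻¹ • y₁ with hy₂
  have h4 : polar Q d y₂ = 1 := by rw [hy₂, polar_smul_right, h3, smul_eq_mul, inv_mul_cancel₀ hy]
  have h5 : polar Q y₂ v = 0 := by rw [hy₂, polar_smul_left, h1, smul_zero]
  clear_value y₁ y₂
  refine ⟨y₂ - Q y₂ • d, ?_, ?_, ?_⟩
  · rw [map_sub', QuadraticMap.map_smul, hd, polar_smul_right, polar_comm Q y₂ d, h4]; simp
  · rw [polar_sub_right, polar_smul_right, polar_self, hd, h4]; simp
  · rw [polar_sub_left, polar_smul_left, hdv, h5]; simp

variable [FiniteDimensional F V] (hQ : (polarBilin Q).Nondegenerate) (h2 : (2 : F) ≠ 0)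
  (hodd : Odd (Nat.card M)) (hconj : ∀ g ∈ isom Q, ∀ m ∈ M, g * m * g⁻¹ ∈ M)

include hQ h2 hodd hconj

theorem no_degenerate {v d : V} (hd0 : d ≠ 0) (hd : Q d = 0) (hdv : polar Q d v = 0) :
    ¬ Rel M Q (v + d) v := by
  intro h
  have hv : Q v ≠ 0 := h.2.1
  obtain ⟨f, hf, hdf, hfv⟩ := exists_partner_perp hQ hd0 hd hdv hv h2
  set a := Q v with ha
  set u := d + (2 * a) • f with hu
  have hQu : Q u = 2 * a := by
    rw [hu, map_add_smul, hd, hf, hdf]; ring
  have hu0 : Q u ≠ 0 := by rw [hQu]; exact mul_ne_zero h2 hv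
  have hgv : refl Q u hu0 v = v := by
    rw [refl_apply, hu, polar_add_right, polar_smul_right, polar_comm Q v d, hdv, polar_comm Q v f, hfv]
    simp
  have hgd : refl Q u hu0 d = -((2 * a) • f) := by
    rw [refl_apply, hQu, hu, polar_add_right, polar_smul_right, polar_self, hd, hdf, smul_zero, zero_add,
      smul_eq_mul, mul_one, inv_mul_cancel₀ (mul_ne_zero h2 hv), one_smul]
    abel
  have h' := Rel.conj hconj (refl_mem_isom hu0) h
  rw [map_add, hgv, hgd] at h'
  refine (h.trans h'.symm).polar_ne h2 hodd ?_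
  rw [polar_add_left, polar_add_right, polar_add_right, polar_neg_right, polar_neg_right, polar_smul_right,
    polar_smul_right, polar_self, hdv, polar_comm Q v f, hfv, hdf, ← ha]
  simp only [smul_eq_mul, nsmul_eq_mul]
  push_cast
  ring

theorem map_eq_or_neg (hle : M ≤ isom Q) {m : V ≃ₗ[F] V} (hm : m ∈ M) {v d : V} (hv : Q v ≠ 0)
    (hd0 : d ≠ 0) (hd : Q d = 0) (hdv : polar Q d v = 0) : m v = v ∨ m v = -v := by
  by_contra hno
  push Not at hno
  obtain ⟨hnv, hnnv⟩ := hno
  have hr : Rel M Q (m v) v := rel_of_mem hconj hle hm hv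
  set a := Q v with ha
  have hvv : polar Q v v = 2 * a := by rw [polar_self, nsmul_eq_mul]; norm_num [ha]
  have h2a : (2 * a) ≠ 0 := mul_ne_zero h2 hv
  set al := polar Q (m v) v / (2 * a) with hal
  set z := m v - al • v with hz
  have hzv : polar Q z v = 0 := by
    rw [hz, polar_sub_left, polar_smul_left, hvv, smul_eq_mul, hal, div_mul_cancel₀ _ h2a, sub_self]
  have hw : m v = al • v + z := by rw [hz]; abel
  have hQz : Q z = a * (1 - al ^ 2) := by
    have := hle hm v
    rw [hw, QuadraticMap.map_add ⇑Q, QuadraticMap.map_smul, polar_smul_left, polar_comm Q v z, hzv, ← ha] at this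
    simp only [smul_eq_mul] at this
    linear_combination this
  rcases eq_or_ne (Q z) 0 with hc | hc
  · have h1 : (al - 1) * (al + 1) = 0 := by
      rw [hQz] at hc
      linear_combination -(mul_eq_zero.1 hc).resolve_left hv
    rcases mul_eq_zero.1 h1 with e | e
    · have e' : al = 1 := by linear_combination e
      rw [e', one_smul] at hw
      have hz0 : z ≠ 0 := fun h0 => hnv (by rw [hw, h0, add_zero])
      rw [hw] at hr
      exact no_degenerate hQ h2 hodd hconj hz0 hc hzv hr
    · have e' : al = -1 := by linear_combination e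
      rw [e', neg_one_smul] at hw
      have hz0 : z ≠ 0 := fun h0 => hnnv (by rw [hw, h0, add_zero])
      have hr' := hr.neg_left
      rw [hw, neg_add, neg_neg] at hr'
      exact no_degenerate hQ h2 hodd hconj (neg_ne_zero.2 hz0) (by rw [map_neg', hc])
        (by rw [polar_neg_left, hzv, neg_zero]) hr'
  · obtain ⟨f, hf, hdf, hfv⟩ := exists_partner_perp hQ hd0 hd hdv hv h2
    set c := Q z with hcdef
    -- the whole sphere of radius `c` in the hyperbolic plane is reached
    have key : ∀ l : F, l ≠ 0 → Rel M Q (al • v + (l • d + (c / l) • f)) v := by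
      intro l hl
      set z' := l • d + (c / l) • f with hz'
      have hQz' : Q z' = c := by
        rw [hz', QuadraticMap.map_add ⇑Q, QuadraticMap.map_smul, QuadraticMap.map_smul, hd, hf, polar_smul_left, polar_smul_right, hdf]
        simp only [smul_eq_mul]
        field_simp
        ring
      have hz'v : polar Q z' v = 0 := by
        rw [hz', polar_add_left, polar_smul_left, polar_smul_left, hdv, hfv]; simp
      clear_value z'
      have flip : Rel M Q (al • v - z') v → Rel M Q (al • v + z') v := fun h => by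
        have hne : Q z' ≠ 0 := by rwa [hQz']
        have h' := Rel.conj hconj (refl_mem_isom hne) h
        have e1 : refl Q z' hne v = v := by
          rw [refl_apply, polar_comm Q v z', hz'v]; simp
        have e2 : refl Q z' hne z' = -z' := by
          rw [refl_apply, polar_self, nsmul_eq_mul, show ((2 : ℕ) : F) = 2 by norm_num,
            show (Q z')⁻¹ * (2 * Q z') = 2 by field_simp, two_smul]
          abel
        rwa [map_sub, map_smul, e1, e2, sub_neg_eq_add] at h'
      have hsum : Q (z - z') + Q (z + z') = 4 * c := by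
        rw [map_sub', QuadraticMap.map_add ⇑Q, hQz', ← hcdef]; ring
      rw [hw] at hr
      by_cases h1 : Q (z - z') = 0
      · have h3 : Q (z + z') ≠ 0 := fun h3 => hc (by
          rw [h1, h3, add_zero] at hsum
          have h4 : (4 : F) ≠ 0 := by
            rw [show (4 : F) = 2 * 2 by norm_num]; exact mul_ne_zero h2 h2
          exact (mul_eq_zero.1 hsum.symm).resolve_left h4)
        have h' := Rel.conj hconj (refl_mem_isom h3) hr
        have e1 : refl Q (z + z') h3 v = v := by
          rw [refl_apply, polar_add_right, polar_comm Q v z, hzv, polar_comm Q v z', hz'v]; simp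
        have e3 : polar Q z (z + z') = Q (z + z') := by
          rw [QuadraticMap.map_add ⇑Q, polar_add_right, polar_self, hQz', ← hcdef, nsmul_eq_mul]; push_cast; ring
        have e2 : refl Q (z + z') h3 z = -z' := by
          rw [refl_apply, e3, inv_mul_cancel₀ h3, one_smul]; abel
        rw [map_add, map_smul, e1, e2, ← sub_eq_add_neg] at h'
        exact flip h'
      · have h' := Rel.conj hconj (refl_mem_isom h1) hr
        have e1 : refl Q (z - z') h1 v = v := by
          rw [refl_apply, polar_sub_right, polar_comm Q v z, hzv, polar_comm Q v z', hz'v]; simp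
        have e3 : polar Q z (z - z') = Q (z - z') := by
          rw [map_sub', polar_sub_right, polar_self, hQz', ← hcdef, nsmul_eq_mul]; push_cast; ring
        have e2 : refl Q (z - z') h1 z = z' := by
          rw [refl_apply, e3, inv_mul_cancel₀ h1, one_smul]; abel
        rwa [map_add, map_smul, e1, e2] at h'
    have hal0 : al ≠ 0 := fun h0 => hr.polar_ne h2 hodd (by
      rw [hw, h0, zero_smul, zero_add, hzv])
    have h1m : 1 - al ≠ 0 := fun h0 => hc (by rw [hQz]; linear_combination (a * (1 + al)) * h0)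
    have h1p : 1 + al ≠ 0 := fun h0 => hc (by rw [hQz]; linear_combination (a * (1 - al)) * h0)
    set l := -(1 + al) / (1 - al) with hl
    have hl0 : l ≠ 0 := div_ne_zero (neg_ne_zero.2 h1p) h1m
    set w₁ := al • v + ((1 : F) • d + (c / 1) • f) with hw₁
    set w₂ := al • v + (l • d + (c / l) • f) with hw₂
    have hrel : Rel M Q w₁ w₂ := (key 1 one_ne_zero).trans (key l hl0).symm
    have hQw : ∀ k : F, k ≠ 0 → Q (al • v + (k • d + (c / k) • f)) = a := by
      intro k hk
      rw [QuadraticMap.map_add ⇑Q, QuadraticMap.map_smul, QuadraticMap.map_add ⇑Q, QuadraticMap.map_smul, QuadraticMap.map_smul, hd, hf, ← ha]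
      simp only [polar_smul_left, polar_smul_right, polar_add_right, polar_comm Q v d, hdv, polar_comm Q v f, hfv,
        hdf, smul_eq_mul]
      field_simp
      linear_combination (k ^ 2) * hQz
    have hb : polar Q w₁ w₂ = -(2 * a) := by
      rw [hw₁, hw₂]
      simp only [polar_add_left, polar_add_right, polar_smul_left, polar_smul_right, hvv, polar_comm Q v d, hdv,
        polar_comm Q v f, hfv, hdf, polar_comm Q f d, polar_self, hd, hf, smul_eq_mul, smul_zero]
      have hneg : -1 - al ≠ 0 := fun h0 => h1p (by linear_combination -h0)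
      rw [hQz, hl]
      field_simp
      ring
    have hQ1 : Q w₁ = a := hQw 1 one_ne_zero
    have hQ2 : Q w₂ = a := hQw l hl0
    set u := w₁ + w₂ with hu
    have hQu : Q u = 0 := by rw [hu, QuadraticMap.map_add ⇑Q, hQ1, hQ2, hb]; ring
    have huw : polar Q (-u) w₁ = 0 := by
      rw [hu, polar_neg_left, polar_add_left, polar_comm Q w₂ w₁, hb, polar_self, hQ1, nsmul_eq_mul]
      push_cast; ring
    have hu0 : u ≠ 0 := fun h0 => by
      have := congrArg (fun x => polar Q x v) h0
      simp only [hu, hw₁, hw₂, polar_add_left, polar_smul_left, hvv, hdv, hfv, smul_eq_mul, mul_zero, add_zero,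
        polar_zero_left] at this
      have : 2 * (al * (2 * a)) = 0 := by linear_combination this
      exact mul_ne_zero h2 (mul_ne_zero hal0 h2a) this
    have hr2 := hrel.symm.neg_left
    rw [show -w₂ = w₁ + -u by rw [hu]; abel] at hr2
    exact no_degenerate hQ h2 hodd hconj (neg_ne_zero.2 hu0) (by rw [map_neg', hQu]) huw hr2

/-- Every element squares to the identity. -/
theorem map_map [Finite F] (hn : 3 ≤ Module.finrank F V) (hle : M ≤ isom Q) {m : V ≃ₗ[F] V} (hm : m ∈ M)
    (x : V) : m (m x) = x := by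
  -- singular vectors and anisotropic vectors orthogonal to one of them
  have hsing : ∀ d : V, d ≠ 0 → Q d = 0 → m (m d) = d := by
    intro d hd0 hd
    obtain ⟨z, hz, hzd⟩ : ∃ z, Q z ≠ 0 ∧ polar Q d z = 0 := by
      by_contra hno
      push Not at hno
      have hall : ∀ y : V, polar Q d y = 0 → Q y = 0 := fun y hy => by
        by_contra h
        exact hno y h hy
      let U : Submodule F V := perp Q (Submodule.span F {d})
      have hU : ∀ y ∈ U, polar Q d y = 0 := fun y hy => by
        rw [polar_comm]; exact mem_perp.1 hy d (Submodule.mem_span_singleton_self d)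
      have hU' : U ≤ perp Q U := fun y hy => mem_perp.2 fun u hu => by
        rw [polar, hall _ (hU _ (U.add_mem hy hu)), hall _ (hU _ hy), hall _ (hU _ hu)]; ring
      have e1 := finrank_perp hQ (Submodule.span F {d})
      have e2 := finrank_perp hQ U
      have e3 := Submodule.finrank_mono hU'
      rw [finrank_span_singleton hd0] at e1
      change Module.finrank F U = _ at e1
      omega
    have hzd' : polar Q d (z + d) = 0 := by rw [polar_add_right, hzd, polar_self, hd]; simp
    have hQzd : Q (z + d) = Q z := by rw [QuadraticMap.map_add ⇑Q, hd, polar_comm Q z d, hzd]; ring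
    have hsq : ∀ y, Q y ≠ 0 → polar Q d y = 0 → m (m y) = y := fun y hy hyd => by
      rcases map_eq_or_neg hQ h2 hodd hconj hle hm hy hd0 hd hyd with e | e
      · rw [e, e]
      · rw [e, map_neg, e, neg_neg]
    have h1 := hsq z hz hzd
    have h3 := hsq (z + d) (by rwa [hQzd]) hzd'
    rw [map_add, map_add, h1] at h3
    exact add_left_cancel h3
  obtain ⟨d, -, hd0, hd⟩ : ∃ d ∈ (⊤ : Submodule F V), d ≠ 0 ∧ Q d = 0 := by
    refine exists_singular Q ⊤ ?_
    rw [finrank_top]; omega
  obtain ⟨f₀, hf₀⟩ : ∃ f, polar Q d f ≠ 0 := by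
    by_contra hno
    push Not at hno
    exact hd0 (polar_ext hQ hno)
  set f₁ := (polar Q d f₀)⁻¹ • f₀ with hf₁
  have hdf₁ : polar Q d f₁ = 1 := by rw [hf₁, polar_smul_right, smul_eq_mul, inv_mul_cancel₀ hf₀]
  clear_value f₁
  set f := f₁ - Q f₁ • d with hfdef
  have hdf : polar Q d f = 1 := by rw [hfdef, polar_sub_right, polar_smul_right, polar_self, hd, hdf₁]; simp
  have hf : Q f = 0 := by
    rw [hfdef, map_sub', QuadraticMap.map_smul, hd, polar_smul_right, polar_comm Q f₁ d, hdf₁]; simp
  have hf0 : f ≠ 0 := fun h0 => by rw [h0, polar_zero_right] at hdf; exact zero_ne_one hdf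
  set y := x - polar Q x f • d - polar Q x d • f with hy
  have hyd : polar Q d y = 0 := by
    rw [hy, polar_sub_right, polar_sub_right, polar_smul_right, polar_smul_right, polar_self, hd, hdf,
      polar_comm Q d x]
    simp
  have hym : m (m y) = y := by
    by_cases hy0 : Q y = 0
    · rcases eq_or_ne y 0 with h | hne
      · rw [h, map_zero, map_zero]
      · exact hsing y hne hy0
    · rcases map_eq_or_neg hQ h2 hodd hconj hle hm hy0 hd0 hd hyd with e | e
      · rw [e, e]
      · rw [e, map_neg, e, neg_neg]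
  have hx : x = y + polar Q x f • d + polar Q x d • f := by rw [hy]; abel
  rw [hx]
  simp only [map_add, map_smul, hsing d hd0 hd, hsing f hf0 hf, hym]

end OddNormal

/-- A normal subgroup of odd order of the orthogonal group is trivial. -/
theorem odd_normal_isom_eq_bot [FiniteDimensional F V] [Finite F] (hQ : (polarBilin Q).Nondegenerate)
    (h2 : (2 : F) ≠ 0) (hn : 3 ≤ Module.finrank F V) (M : Subgroup (V ≃ₗ[F] V)) (hle : M ≤ isom Q)
    (hconj : ∀ g ∈ isom Q, ∀ m ∈ M, g * m * g⁻¹ ∈ M) (hodd : Odd (Nat.card M)) : M = ⊥ := by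
  rw [Subgroup.eq_bot_iff_forall]
  intro m hm
  have hsq : m ^ 2 = 1 := LinearEquiv.ext fun v => by
    rw [pow_two]; exact OddNormal.map_map hQ h2 hodd hconj hn hle hm v
  rw [← orderOf_eq_one_iff]
  rcases (Nat.dvd_prime Nat.prime_two).1 (orderOf_dvd_of_pow_eq_one hsq) with h | h
  · exact h
  · exact absurd (even_iff_two_dvd.2 (h ▸ Subgroup.orderOf_dvd_natCard M hm)) (Nat.not_even_iff_odd.2 hodd)

end CfsgLib.Forms
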