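import Cfsg.Agent.Forms.Classify
import Cfsg.Agent.Forms.OmegaMatrix

/-!
Index of `Ω` through reflection lists, subgroups of index two, and `-1 ∈ Ω`.
-/

set_option autoImplicit false

open QuadraticMap Matrix
open scoped commutatorElement

namespace CfsgLib.Forms

variable {F : Type*} [Field F] [Finite F] {ι : Type} [Fintype ι] [DecidableEq ι]
  {Q : QuadraticForm F (ι → F)}

theorem listGL_append (l k : List {u : ι → F // Q u ≠ 0}) : listGL Q (l ++ k) = listGL Q l * listGL Q k := by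
  refine (isoEquiv Q).injective ?_
  rw [map_mul, isoEquiv_listGL, isoEquiv_listGL, isoEquiv_listGL]
  exact Subtype.ext (reflProd_append l k)

theorem exists_eq_listGL (hQ : (polarBilin Q).Nondegenerate) (h : Nat.card F ≠ 2 ∨ Fintype.card ι ≠ 4)
    (g : Cfsg.isometryGroup F ⇑Q) : ∃ l, g = listGL Q l := by
  obtain ⟨l, hl⟩ := exists_list hQ h g
  exact ⟨l, (isoEquiv Q).injective (hl.trans (isoEquiv_listGL l).symm)⟩

theorem listGL_mem_Omega (hQ : (polarBilin Q).Nondegenerate) (h : Nat.card F ≠ 2 ∨ Fintype.card ι ≠ 4)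
    (l : List {u : ι → F // Q u ≠ 0}) :
    listGL Q l ∈ Cfsg.Omega F ⇑Q ↔ Even l.length ∧ IsSquare (valueProd Q l) :=
  mem_Omega_of_list hQ h (isoEquiv_listGL l)

theorem listGL_mem_special_iff (h2 : (2 : F) ≠ 0) (l : List {u : ι → F // Q u ≠ 0}) :
    listGL Q l ∈ Cfsg.specialIsometryGroup F ⇑Q ↔ Even l.length := by
  show Matrix.GeneralLinearGroup.det ((listGL Q l : Cfsg.isometryGroup F ⇑Q) : GL ι F) = 1 ↔ _
  rw [Units.ext_iff]
  show ((listGL Q l : GL ι F) : Matrix ι ι F).det = 1 ↔ _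
  rw [det_of_list (isoEquiv_listGL l), neg_one_pow_eq_one_iff_even fun h => h2 (by linear_combination -h)]

theorem special_eq_top (h2 : (2 : F) = 0) (hQ : (polarBilin Q).Nondegenerate)
    (h : Nat.card F ≠ 2 ∨ Fintype.card ι ≠ 4) : Cfsg.specialIsometryGroup F ⇑Q = ⊤ := by
  refine eq_top_iff.2 fun g _ => ?_
  obtain ⟨l, rfl⟩ := exists_eq_listGL hQ h g
  show Matrix.GeneralLinearGroup.det ((listGL Q l : Cfsg.isometryGroup F ⇑Q) : GL ι F) = 1
  rw [Units.ext_iff]
  show ((listGL Q l : GL ι F) : Matrix ι ι F).det = 1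
  rw [det_of_list (isoEquiv_listGL l), show (-1 : F) = 1 by linear_combination -h2, one_pow]

theorem Omega_le_special (hQ : (polarBilin Q).Nondegenerate) (h : Nat.card F ≠ 2 ∨ Fintype.card ι ≠ 4) :
    Cfsg.Omega F ⇑Q ≤ Cfsg.specialIsometryGroup F ⇑Q := by
  intro g hg
  obtain ⟨l, rfl⟩ := exists_eq_listGL hQ h g
  by_cases h2 : (2 : F) = 0
  · rw [special_eq_top h2 hQ h]; trivial
  · exact (listGL_mem_special_iff h2 l).2 ((listGL_mem_Omega hQ h l).1 hg).1

omit [Finite F] [DecidableEq ι] in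
theorem exists_value_ne (hQ : (polarBilin Q).Nondegenerate) (hn : 1 ≤ Fintype.card ι) : ∃ u, Q u ≠ 0 := by
  by_contra hall
  push Not at hall
  have := two_finrank_le_of_singular hQ (U := ⊤) fun u _ => hall u
  rw [finrank_top, Module.finrank_fintype_fun_eq_card] at this
  omega

theorem index_Omega_two (h2 : (2 : F) = 0) (hQ : (polarBilin Q).Nondegenerate)
    (h : Nat.card F ≠ 2 ∨ Fintype.card ι ≠ 4) (hn : 1 ≤ Fintype.card ι) : (Cfsg.Omega F ⇑Q).index = 2 := by
  obtain ⟨u, hu⟩ := exists_value_ne hQ hn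
  have hsq : ∀ l : List {u : ι → F // Q u ≠ 0}, IsSquare (valueProd Q l) := fun l => by
    obtain ⟨r, hr⟩ := exists_sq h2 (valueProd Q l); exact ⟨r, hr.symm⟩
  refine Subgroup.index_eq_two_iff.2 ⟨listGL Q [⟨u, hu⟩], fun g => ?_⟩
  obtain ⟨l, rfl⟩ := exists_eq_listGL hQ h g
  rw [← listGL_append, listGL_mem_Omega hQ h, listGL_mem_Omega hQ h, and_iff_left (hsq _),
    and_iff_left (hsq _), List.length_append, List.length_singleton, Nat.even_add_one]
  rcases em (Even l.length) with he | he <;> simp [he]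

theorem relIndex_Omega (hQ : (polarBilin Q).Nondegenerate) (h : Nat.card F ≠ 2 ∨ Fintype.card ι ≠ 4)
    (hn : 2 ≤ Fintype.card ι) :
    (Cfsg.Omega F ⇑Q).relIndex (Cfsg.specialIsometryGroup F ⇑Q) = 2 := by
  by_cases h2 : (2 : F) = 0
  · rw [special_eq_top h2 hQ h, Subgroup.relIndex_top_right, index_Omega_two h2 hQ h (by omega)]
  have := Fintype.ofFinite F
  obtain ⟨ν, hν⟩ := FiniteField.exists_nonsquare (F := F) (fun hc => h2 (by
    have := ringChar.eq_iff.1 hc; exact CharTwo.two_eq_zero))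
  have hν0 : ν ≠ 0 := fun h => hν (h ▸ IsSquare.zero)
  obtain ⟨a, ha⟩ := exists_value hQ (by simpa using hn) (one_ne_zero : (1 : F) ≠ 0)
  obtain ⟨b, hb⟩ := exists_value hQ (by simpa using hn) hν0
  have ha' : Q a ≠ 0 := ha ▸ one_ne_zero
  have hb' : Q b ≠ 0 := by rw [hb]; exact hν0
  refine Subgroup.index_eq_two_iff.2 ⟨⟨listGL Q [⟨a, ha'⟩, ⟨b, hb'⟩], (listGL_mem_special_iff h2 _).2 ⟨1, rfl⟩⟩,
    fun ⟨g, hg⟩ => ?_⟩
  obtain ⟨l, rfl⟩ := exists_eq_listGL hQ h g
  have he := (listGL_mem_special_iff h2 l).1 hg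
  simp only [Subgroup.mem_subgroupOf, Subgroup.coe_mul]
  rw [← listGL_append, listGL_mem_Omega hQ h, listGL_mem_Omega hQ h, List.length_append,
    and_iff_right he, and_iff_right (show Even (l.length + [(⟨a, ha'⟩ : {u : ι → F // Q u ≠ 0}), ⟨b, hb'⟩].length) from
      he.add ⟨1, rfl⟩)]
  have hv : valueProd Q (l ++ [⟨a, ha'⟩, ⟨b, hb'⟩]) = valueProd Q l * ν := by
    simp [valueProd, ha, hb]
  rw [hv, isSquare_mul_iff' (valueProd_ne_zero l) hν0]
  rcases em (IsSquare (valueProd Q l)) with hs | hs <;> simp [hs, hν]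

/-- `O/K` is abelian for every normal `K` containing the squares of products of two reflections. -/
theorem Omega_le_of_sq_mem (hQ : (polarBilin Q).Nondegenerate) (h : Nat.card F ≠ 2 ∨ Fintype.card ι ≠ 4)
    (K : Subgroup (Cfsg.isometryGroup F ⇑Q)) [K.Normal]
    (hK : ∀ u w : {u : ι → F // Q u ≠ 0}, listGL Q [u, w] * listGL Q [u, w] ∈ K) : Cfsg.Omega F ⇑Q ≤ K := by
  set π := QuotientGroup.mk' K
  have hinv : ∀ u : {u : ι → F // Q u ≠ 0}, listGL Q [u] * listGL Q [u] = 1 := fun u => by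
    refine (isoEquiv Q).injective ?_
    rw [map_mul, map_one, isoEquiv_listGL]
    refine Subtype.ext (LinearEquiv.ext fun v => ?_)
    exact reflL_reflL u.2 v
  have hpair : ∀ u w : {u : ι → F // Q u ≠ 0},
      π (listGL Q [u]) * π (listGL Q [w]) = π (listGL Q [w]) * π (listGL Q [u]) := by
    intro u w
    have hu : π (listGL Q [u]) * π (listGL Q [u]) = 1 := by rw [← map_mul, hinv, map_one]
    have hw : π (listGL Q [w]) * π (listGL Q [w]) = 1 := by rw [← map_mul, hinv, map_one]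
    have hsq : (π (listGL Q [u]) * π (listGL Q [w])) * (π (listGL Q [u]) * π (listGL Q [w])) = 1 := by
      rw [← map_mul, ← listGL_append, List.singleton_append, ← map_mul]
      exact (QuotientGroup.eq_one_iff _).2 (hK u w)
    calc π (listGL Q [u]) * π (listGL Q [w])
        = (π (listGL Q [u]) * π (listGL Q [w]))⁻¹ := eq_inv_of_mul_eq_one_left hsq
      _ = π (listGL Q [w]) * π (listGL Q [u]) := by
          rw [_root_.mul_inv_rev, inv_eq_of_mul_eq_one_right hu, inv_eq_of_mul_eq_one_right hw]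
  have hone : listGL Q ([] : List {u : ι → F // Q u ≠ 0}) = 1 :=
    (isoEquiv Q).injective (by rw [map_one, isoEquiv_listGL]; rfl)
  have hcomm1 : ∀ u : {u : ι → F // Q u ≠ 0}, ∀ l, Commute (π (listGL Q [u])) (π (listGL Q l)) := by
    intro u l
    induction l with
    | nil => rw [hone, map_one]; exact Commute.one_right _
    | cons w l ih =>
      rw [show w :: l = [w] ++ l from rfl, listGL_append, map_mul]
      exact Commute.mul_right (hpair u w) ih
  have hcomm : ∀ l k, Commute (π (listGL Q l)) (π (listGL Q k)) := by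
    intro l k
    induction l with
    | nil => rw [hone, map_one]; exact Commute.one_left _
    | cons w l ih =>
      rw [show w :: l = [w] ++ l from rfl, listGL_append, map_mul]
      exact Commute.mul_left (hcomm1 w k) ih
  show ⁅(⊤ : Subgroup (Cfsg.isometryGroup F ⇑Q)), ⊤⁆ ≤ K
  refine Subgroup.commutator_le.2 fun g _ k _ => (QuotientGroup.eq_one_iff _).1 ?_
  obtain ⟨l, rfl⟩ := exists_eq_listGL hQ h g
  obtain ⟨k', rfl⟩ := exists_eq_listGL hQ h k
  show π ⁅listGL Q l, listGL Q k'⁆ = 1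
  rw [map_commutatorElement, commutatorElement_eq_one_iff_mul_comm]
  exact hcomm l k'

theorem neg_one_mem_Omega_iff [Fintype F] (h2 : (2 : F) ≠ 0) (hQ : (polarBilin Q).Nondegenerate)
    (he : Even (Fintype.card ι)) (hn : 2 ≤ Fintype.card ι) :
    (∃ g : Cfsg.isometryGroup F ⇑Q, g ∈ Cfsg.Omega F ⇑Q ∧ ((g : GL ι F) : Matrix ι ι F) = -1) ↔
      IsSquare (gram ⇑Q ⇑(Pi.basisFun F ι)).det := by
  classical
  set d := Module.finrank F (ι → F) with hd
  obtain ⟨b, hb⟩ := orth_basis h2 Q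
  have hcard : d = Fintype.card ι := Module.finrank_fintype_fun_eq_card F
  have hb0 : ∀ i, Q (b i) ≠ 0 := fun i h0 => by
    refine b.ne_zero i (polar_ext hQ fun y => ?_)
    rw [polar_comm, ← b.sum_repr y, polar_sum_left]
    refine Finset.sum_eq_zero fun j _ => ?_
    rw [polar_smul_left]
    rcases eq_or_ne j i with rfl | hj
    · rw [polar_self, h0]; simp
    · rw [hb j i hj, smul_zero]
  have hcd : Nat.card F ≠ 2 ∨ Fintype.card ι ≠ 4 := Or.inl (natCard_ne_two h2)
  let L : List (Fin d) → List {u : ι → F // Q u ≠ 0} := fun l => l.map fun i => ⟨b i, hb0 i⟩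
  have hact : ∀ (l : List (Fin d)), l.Nodup → ∀ j, reflProd Q (L l) (b j) = if j ∈ l then -b j else b j := by
    intro l
    induction l with
    | nil => intro _ j; rfl
    | cons a l ih =>
      intro hnd j
      obtain ⟨ha, hl⟩ := List.nodup_cons.1 hnd
      show refl Q (b a) (hb0 a) (reflProd Q (L l) (b j)) = _
      rw [ih hl j]
      have hself : refl Q (b a) (hb0 a) (b a) = -b a := by
        rw [refl_apply, polar_self, nsmul_eq_mul, Nat.cast_ofNat]
        have := hb0 a
        match_scalars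
        field_simp
        ring
      have hother : ∀ j, j ≠ a → refl Q (b a) (hb0 a) (b j) = b j := fun j hj => by
        rw [refl_apply, hb j a hj]; simp
      rcases eq_or_ne j a with rfl | hj
      · simp [ha, hself]
      · split_ifs with h1 h2 h2 <;> simp_all
  set W := L (List.finRange d)
  have hM : ((listGL Q W : GL ι F) : Matrix ι ι F) = -1 := by
    refine Matrix.ext_iff_mulVec.2 fun v => ?_
    rw [← glEquiv_apply, ← coe_isoEquiv, isoEquiv_listGL, neg_mulVec, one_mulVec]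
    show reflProd Q W v = -v
    rw [← b.sum_repr v, map_sum, ← Finset.sum_neg_distrib]
    refine Finset.sum_congr rfl fun j _ => ?_
    rw [map_smul, hact _ (List.nodup_finRange _) j, if_pos (List.mem_finRange j), smul_neg]
  have hlen : Even W.length := by simpa [W, L, hcard] using he
  have hprod : valueProd Q W = ∏ i, Q (b i) := by
    simp [W, L, valueProd, List.map_map, Function.comp_def, Fin.prod_univ_def, d]
  have hdet : IsSquare (∏ i, Q (b i)) ↔ IsSquare (gram ⇑Q ⇑(Pi.basisFun F ι)).det := by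
    rw [← isSquare_det_gram_iff Q b (Pi.basisFun F ι), det_gram_orth Q b hb, Fintype.card_fin]
    obtain ⟨k, hk⟩ : ∃ k, Module.finrank F (ι → F) = k + k := ⟨_, (hd.symm.trans hcard).trans he.choose_spec⟩
    have hk' : (2 : F) ^ Module.finrank F (ι → F) = 2 ^ k * 2 ^ k := by rw [hk, pow_add]
    have : (2 : F) ^ k ≠ 0 := pow_ne_zero _ h2
    rw [hk']
    exact ⟨fun ⟨r, hr⟩ => ⟨2 ^ k * r, by rw [hr]; ring⟩,
      fun ⟨r, hr⟩ => ⟨r / 2 ^ k, by field_simp; linear_combination hr⟩⟩
  rw [← hdet, ← hprod]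
  constructor
  · rintro ⟨g, hg, hg1⟩
    have : g = listGL Q W := Subtype.ext (Units.ext (hg1.trans hM.symm))
    exact ((listGL_mem_Omega hQ hcd W).1 (this ▸ hg)).2
  · exact fun hsq => ⟨_, (listGL_mem_Omega hQ hcd W).2 ⟨hlen, hsq⟩, hM⟩

end CfsgLib.Forms
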