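import Cfsg.Agent.Forms.OrthBasics
import Cfsg.Agent.Forms.Standard
set_option autoImplicit false

/-!
In characteristic two membership of `Ω` is read off the rank of `g - 1`.
-/

namespace CfsgLib.Forms

open QuadraticMap Matrix

variable {F : Type*} [Field F] [Finite F] {ι : Type} [Fintype ι] [DecidableEq ι] {Q : QuadraticForm F (ι → F)}

theorem mem_Omega_iff_rank_even (h2 : (2 : F) = 0) (hQ : (polarBilin Q).Nondegenerate) (hdim : 5 ≤ Fintype.card ι)
    (hev : Even (Fintype.card ι)) (t : Cfsg.isometryGroup F ⇑Q) :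
    t ∈ Cfsg.Omega F ⇑Q ↔ Even ((t : GL ι F).1 - 1).rank := by
  have hd : Nat.card F ≠ 2 ∨ Fintype.card ι ≠ 4 := Or.inr (by omega)
  obtain ⟨l, rfl⟩ := exists_eq_listGL hQ hd t
  rw [listGL_mem_Omega hQ hd]
  obtain ⟨b, hb⟩ := exists_sq h2 (valueProd Q l)
  have hsq : IsSquare (valueProd Q l) := ⟨b, hb.symm⟩
  rw [and_iff_left hsq]
  have hpar := finrank_fixed_parity hQ l
  set f := Matrix.toLin' ((listGL Q l : GL ι F).1 - 1) with hf
  have hfl : f = (reflProd Q l : (ι → F) →ₗ[F] (ι → F)) - LinearMap.id := LinearMap.ext fun v => by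
    rw [hf, Matrix.toLin'_apply, sub_mulVec, one_mulVec, LinearMap.sub_apply, LinearMap.id_apply,
      LinearEquiv.coe_coe, ← glEquiv_apply, ← coe_isoEquiv, isoEquiv_listGL]
  have hrk := LinearMap.finrank_range_add_finrank_ker f
  rw [Module.finrank_fintype_fun_eq_card] at hrk hpar
  have hrank : ((listGL Q l : GL ι F).1 - 1).rank = Module.finrank F (LinearMap.range f) := by
    rw [hf, Matrix.toLin'_apply']; rfl
  rw [hrank, Nat.even_iff, Nat.even_iff]
  rw [← hfl] at hpar
  rw [Nat.even_iff] at hev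
  omega

end CfsgLib.Forms
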