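import Cfsg.Agent.Forms.Similitude
import Cfsg.Agent.Forms.Classify
import Cfsg.Agent.Forms.EvenType
import Cfsg.Agent.Forms.Levi

/-!
The standard forms satisfy the standing hypotheses of `Similitude`; the class of `-1`.
-/

set_option autoImplicit false

open QuadraticMap Matrix

namespace CfsgLib.Forms.Simil

variable {F : Type*} [Field F] [Fintype F]

omit [Fintype F] in
theorem IsHyp.reindex {V : Type*} [AddCommGroup V] [Module F V] {Q : QuadraticForm F V} {k j : ℕ} {e f : Fin k → V}
    (h : IsHyp Q e f) (ν : Fin j → Fin k) (hν : Function.Injective ν) : IsHyp Q (e ∘ ν) (f ∘ ν) :=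
  ⟨fun i => h.qe _, fun i => h.qf _, fun i l => by rw [Function.comp_apply, Function.comp_apply, h.ef]; simp [hν.eq_iff],
    fun i l => h.ee _ _, fun i l => h.ff _ _⟩

theorem two_ne_of_odd (hodd : Odd (Fintype.card F)) : ringChar F ≠ 2 ∧ (2 : F) ≠ 0 := by
  have h : ringChar F ≠ 2 := by
    rw [Ne, FiniteField.even_card_iff_char_two, Nat.odd_iff.1 hodd]
    exact one_ne_zero
  exact ⟨h, Ring.two_ne_zero h⟩

theorem isSquare_neg_one_pow_iff (hodd : Odd (Fintype.card F)) (n : ℕ) :
    IsSquare ((-1 : F) ^ n) ↔ ¬ (Odd n ∧ Fintype.card F % 4 = 3) := by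
  have hq4 : Fintype.card F % 4 = 1 ∨ Fintype.card F % 4 = 3 := by have := Nat.odd_iff.1 hodd; omega
  rcases Nat.even_or_odd n with he | ho
  · simp [he.neg_one_pow, Nat.not_odd_iff_even.2 he]
  · rw [ho.neg_one_pow, FiniteField.isSquare_neg_one_iff]
    simp [ho]

theorem good_plus (hodd : Odd (Fintype.card F)) {m : ℕ} (hm : 3 ≤ m) : Good (quadPlus F m) := by
  classical
  obtain ⟨hc, h2⟩ := two_ne_of_odd hodd
  obtain ⟨c, hns⟩ := FiniteField.exists_nonsquare hc
  have hc0 : c ≠ 0 := fun e => hns (e ▸ IsSquare.zero)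
  refine ⟨h2, nondegenerate_quadPlus m,
    ⟨_, _, IsHyp.reindex (standard_pairs (F := F) m) (Fin.castLE hm) (Fin.castLE_injective hm)⟩, ?_, ⟨m, by simp⟩⟩
  refine ⟨⟨diagonal (Sum.elim (fun _ => c) (fun _ => 1)), diagonal (Sum.elim (fun _ => c⁻¹) (fun _ => 1)), ?_, ?_⟩, c, hns, fun v => ?_⟩
  · rw [diagonal_mul_diagonal, ← diagonal_one]
    congr 1; funext i; rcases i with i | i <;> simp [hc0]
  · rw [diagonal_mul_diagonal, ← diagonal_one]
    congr 1; funext i; rcases i with i | i <;> simp [hc0]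
  · show quadPlus F m (diagonal _ *ᵥ v) = _
    simp [Cfsg.quadFormPlus, mulVec_diagonal, Finset.mul_sum, mul_assoc]

theorem negOne_plus (hodd : Odd (Fintype.card F)) {m : ℕ} (hm : 1 ≤ m) :
    (negOne (Q := quadPlus F m)) ∈ Cfsg.Omega F ⇑(quadPlus F m) ↔ ¬ (Odd m ∧ Fintype.card F % 4 = 3) := by
  classical
  obtain ⟨-, h2⟩ := two_ne_of_odd hodd
  rw [← isSquare_neg_one_pow_iff hodd]
  have key := neg_pairs_mem_Omega h2 (nondegenerate_quadPlus m) (by simp; omega) (standard_pairs (F := F) m)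
    Finset.univ (-1) fun v => by
      simp only [(polar_single v _).1, (polar_single v _).2, neg_mulVec, one_mulVec]
      funext z
      rcases z with z | z <;> simp [Finset.sum_apply, Pi.single_apply] <;> ring
  rw [Finset.card_univ, Fintype.card_fin] at key
  rw [← key]
  constructor
  · intro h; exact ⟨_, h, rfl⟩
  · rintro ⟨g, hg, e⟩
    have : g = (negOne (Q := quadPlus F m)) := Subtype.ext (Units.ext e)
    rwa [this] at hg

omit [Fintype F] in
theorem minus_pairs (m : ℕ) (a b : F) : IsHyp (quadMinus F m a b)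
    (fun i => Pi.single (Sum.inl (Sum.inl i)) (1 : F)) (fun i => Pi.single (Sum.inl (Sum.inr i)) 1) := by
  constructor <;> intro i <;>
    first
      | (simp [Cfsg.quadFormMinus, Pi.single_apply]; done)
      | (intro j; simp [polar_minus, Pi.single_apply, eq_comm])

theorem good_minus (hodd : Odd (Fintype.card F)) {m : ℕ} (hm : 3 ≤ m) {a b : F}
    (hab : ∀ z₁ z₂ : F, z₁ ^ 2 + a * z₁ * z₂ + b * z₂ ^ 2 = 0 → z₁ = 0 ∧ z₂ = 0) : Good (quadMinus F m a b) := by
  classical
  obtain ⟨hc, h2⟩ := two_ne_of_odd hodd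
  obtain ⟨c, hns⟩ := FiniteField.exists_nonsquare hc
  have hc0 : c ≠ 0 := fun e => hns (e ▸ IsSquare.zero)
  have hQ := nondegenerate_quadMinus m hab
  refine ⟨h2, hQ, ⟨_, _, IsHyp.reindex (minus_pairs m a b) (Fin.castLE hm) (Fin.castLE_injective hm)⟩, ?_,
    ⟨m + 1, by simp; omega⟩⟩
  have hQc : (polarBilin (c • quadMinus F m a b)).Nondegenerate := by
    refine nondegenerate_iff.2 fun x hx => nondegenerate_iff.1 hQ x fun y => ?_
    have h1 := hx y
    rw [show ⇑(c • quadMinus F m a b) = c • ⇑(quadMinus F m a b) from rfl, polar_smul, smul_eq_mul] at h1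
    exact (mul_eq_zero.1 h1).resolve_left hc0
  obtain ⟨g, hg⟩ := exists_isometry_minus (Q := c • quadMinus F m a b) (m := m + 1) (by omega) (by simp; omega) hQc
    (fun ⟨S, hS, hSd⟩ => by
      have h1 := finrank_le_of_singular_minus hab (U := S) fun u hu => by
        have h2 := hS u hu
        rw [_root_.QuadraticMap.smul_apply, smul_eq_mul, coe_quadMinus] at h2
        exact (mul_eq_zero.1 h2).resolve_left hc0
      omega) hab
  refine ⟨glEquiv.symm g, c, hns, fun v => ?_⟩
  rw [← glEquiv_apply, MulEquiv.apply_symm_apply, coe_quadMinus]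
  have h1 := hg v
  rw [_root_.QuadraticMap.smul_apply, smul_eq_mul, coe_quadMinus] at h1
  exact h1

theorem negOne_minus (hodd : Odd (Fintype.card F)) {m : ℕ} {a b : F}
    (hab : ∀ z₁ z₂ : F, z₁ ^ 2 + a * z₁ * z₂ + b * z₂ ^ 2 = 0 → z₁ = 0 ∧ z₂ = 0) :
    (negOne (Q := quadMinus F m a b)) ∈ Cfsg.Omega F ⇑(quadMinus F m a b) ↔ (Even m ∧ Fintype.card F % 4 = 3) := by
  classical
  obtain ⟨hc, h2⟩ := two_ne_of_odd hodd
  set Q := quadMinus F m a b
  have hQ := nondegenerate_quadMinus m hab
  have h := minus_pairs m a b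
  set z₀ : (Fin m ⊕ Fin m) ⊕ Fin 2 → F := Pi.single (Sum.inr 0) 1
  set z₁ : (Fin m ⊕ Fin m) ⊕ Fin 2 → F := Pi.single (Sum.inr 1) 1 - (a / 2) • Pi.single (Sum.inr 0) 1
  set d := b - a ^ 2 / 4 with hd
  have h4 : (4 : F) ≠ 0 := by
    rw [show (4 : F) = 2 * 2 by norm_num]; exact mul_ne_zero h2 h2
  have hq0 : Q z₀ = 1 := by simp [Q, z₀, Cfsg.quadFormMinus, Pi.single_apply]
  have hq1 : Q z₁ = d := by
    simp [Q, z₁, Cfsg.quadFormMinus, Pi.single_apply, hd]
    field_simp
    ring
  have hdns : ¬ IsSquare (-d) := by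
    rintro ⟨r, hr⟩
    exact one_ne_zero (hab (r - a / 2) 1 (by rw [hd] at hr; field_simp at hr ⊢; linear_combination -hr)).2
  have hd0 : d ≠ 0 := fun e => hdns (by rw [e, neg_zero]; exact IsSquare.zero)
  let vs := pairList (fun i => Pi.single (Sum.inl (Sum.inl i)) (1 : F)) (fun i => Pi.single (Sum.inl (Sum.inr i)) 1)
    (Finset.univ : Finset (Fin m)).toList ++ [z₀, z₁]
  obtain ⟨hne, hprod⟩ := pairList_values h (Finset.univ : Finset (Fin m)).toList
  have hM : ((negOne (Q := Q)) : GL _ F).1 = (vs.map fun u => Cfsg.reflectionMatrix ⇑Q u).prod := by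
    refine Matrix.ext_iff_mulVec.2 fun v => ?_
    rw [List.map_append, List.prod_append, ← mulVec_mulVec, pairList_mulVec h _ (Finset.nodup_toList _),
      Finset.toList_toFinset]
    simp only [List.map_cons, List.map_nil, List.prod_cons, List.prod_nil, mul_one, ← mulVec_mulVec,
      reflectionMatrix_mulVec, hq0, hq1]
    show (-1 : GL ((Fin m ⊕ Fin m) ⊕ Fin 2) F).1 *ᵥ v = _
    rw [Units.val_neg, Units.val_one, neg_mulVec, one_mulVec]
    have hd4 : b * 4 - a ^ 2 ≠ 0 := fun e => hd0 (by rw [hd]; field_simp; linear_combination e)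
    funext k
    rcases k with (k | k) | k
    all_goals try fin_cases k
    all_goals
      simp [Q, z₀, z₁, polar_minus, Finset.sum_apply, Pi.single_apply, hd]
      try field_simp
      try ring
  rw [mem_Omega_list Q h2 hQ (by simp) _ vs ?_ hM, List.map_append, List.prod_append, hprod, Finset.length_toList,
    Finset.card_univ, Fintype.card_fin]
  · have hlen : Even vs.length := by
      rw [List.length_append, pairList_length, List.length_cons, List.length_cons, List.length_nil]
      exact (even_two_mul _).add even_two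
    rw [and_iff_right hlen]
    simp only [List.map_cons, List.map_nil, List.prod_cons, List.prod_nil, mul_one, hq0, hq1, one_mul]
    have e : (-1 : F) ^ m * d = (-1) ^ (m + 1) * (-d) := by ring
    rw [e, isSquare_mul_iff' (pow_ne_zero _ (neg_ne_zero.2 one_ne_zero)) (neg_ne_zero.2 hd0),
      isSquare_neg_one_pow_iff hodd, Nat.odd_add_one, Nat.not_odd_iff_even]
    tauto
  · intro u hu
    rcases List.mem_append.1 hu with hu | hu
    · exact hne u hu
    · simp only [List.mem_cons, List.not_mem_nil, or_false] at hu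
      rcases hu with rfl | rfl
      · rw [hq0]; exact one_ne_zero
      · rw [hq1]; exact hd0

end CfsgLib.Forms.Simil
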