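import Mathlib

/-!
Witt's extension theorem for alternating and Hermitian forms, over any field.
-/

set_option autoImplicit false

namespace CfsgLib.Forms

variable {F V : Type*} [Field F] [AddCommGroup V] [Module F V] [FiniteDimensional F V]
  {σ : F →+* F} [RingHomSurjective σ] {B : V →ₛₗ[σ] V →ₗ[F] F}

/-- A vector outside `W` is detected on the annihilator of `W`. -/
theorem exists_ne_zero_of_not_mem (hB : Function.Injective B) {W : Submodule F V} {x : V} (hx : x ∉ W) :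
    ∃ w, (∀ z ∈ W, B z w = 0) ∧ B x w ≠ 0 := by
  by_contra hcon
  push Not at hcon
  have h : B x ∈ (W.map B).dualCoannihilator.dualAnnihilator :=
    (Submodule.mem_dualAnnihilator _).2 fun w hw => hcon w fun z hz =>
      (Submodule.mem_dualCoannihilator w).1 hw (B z) ⟨z, hz, rfl⟩
  rw [Subspace.dualCoannihilator_dualAnnihilator_eq] at h
  obtain ⟨z, hz, he⟩ := h
  exact hx (hB he ▸ hz)

/-- Two linear functionals not vanishing on a subspace have a common non-zero. -/
theorem exists_both_ne_zero {P : Submodule F V} {f g : V →ₗ[F] F} (hf : ∃ w ∈ P, f w ≠ 0)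
    (hg : ∃ w ∈ P, g w ≠ 0) : ∃ w ∈ P, f w ≠ 0 ∧ g w ≠ 0 := by
  obtain ⟨a, ha, hfa⟩ := hf
  obtain ⟨b, hb, hgb⟩ := hg
  by_cases hga : g a = 0
  · by_cases hfb : f b = 0
    · exact ⟨a + b, add_mem ha hb, by simp [hfa, hfb], by simp [hga, hgb]⟩
    · exact ⟨b, hb, hfb, hgb⟩
  · exact ⟨a, ha, hfa, hga⟩

/-- The induction behind Witt's theorem: it suffices to move one vector. -/
theorem witt_of_move
    (move : ∀ (W : Submodule F V) (x y : V), x ∉ W → y ∉ W → B y y = B x x → (∀ z ∈ W, B z y = B z x) →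
      (∀ z ∈ W, B y z = B x z) →
      ∃ g : V ≃ₗ[F] V, (∀ u v, B (g u) (g v) = B u v) ∧ (∀ z ∈ W, g z = z) ∧ g x = y) :
    ∀ (n : ℕ) (X : Submodule F V), Module.finrank F X = n → ∀ φ : X →ₗ[F] V, Function.Injective φ →
      (∀ x x' : X, B (φ x) (φ x') = B (x : V) (x' : V)) →
      ∃ g : V ≃ₗ[F] V, (∀ u v, B (g u) (g v) = B u v) ∧ ∀ x : X, g (x : V) = φ x := by
  intro n
  induction n with
  | zero =>
    intro X hX φ _ _
    refine ⟨1, fun _ _ => rfl, fun x => ?_⟩
    have h0 : X = ⊥ := Submodule.finrank_eq_zero.1 hX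
    have : x = 0 := Subtype.ext ((Submodule.mem_bot F).1 (by rw [← h0]; exact x.2))
    simp [this]
  | succ n ih =>
    intro X hX φ hinj hφ
    obtain ⟨x, hxX, hx0⟩ : ∃ x ∈ X, x ≠ 0 :=
      Submodule.exists_mem_ne_zero_of_ne_bot fun h => by rw [h] at hX; simp at hX
    obtain ⟨C, hC⟩ := Submodule.exists_isCompl (Submodule.span F {x})
    set X' := X ⊓ C with hX'
    have hdec : ∀ z ∈ X, ∃ l : F, z - l • x ∈ X' := fun z hz => by
      obtain ⟨s, hs, c, hc, e⟩ := Submodule.mem_sup.1 (hC.sup_eq_top ▸ (Submodule.mem_top : z ∈ ⊤))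
      obtain ⟨l, rfl⟩ := Submodule.mem_span_singleton.1 hs
      exact ⟨l, sub_mem hz (X.smul_mem l hxX), by rw [← e]; simpa using hc⟩
    have hxX' : x ∉ X' := fun h => hx0
      (Submodule.disjoint_def.1 hC.disjoint x (Submodule.mem_span_singleton_self x) h.2)
    have hn : Module.finrank F X' = n := by
      have h1 : X = X' ⊔ Submodule.span F {x} := le_antisymm (fun z hz => by
        obtain ⟨l, hl⟩ := hdec z hz
        exact Submodule.mem_sup.2 ⟨_, hl, _, Submodule.smul_mem _ l (Submodule.mem_span_singleton_self x),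
          by abel⟩) (sup_le inf_le_left (by simpa using hxX))
      have h2 : X' ⊓ Submodule.span F {x} = ⊥ := by
        rw [← le_bot_iff, ← hC.inf_eq_bot]; exact le_inf inf_le_right (inf_le_left.trans inf_le_right)
      have h3 := Submodule.finrank_sup_add_finrank_inf_eq X' (Submodule.span F {x})
      rw [← h1, h2, hX, finrank_span_singleton hx0, finrank_bot] at h3
      omega
    obtain ⟨g₀, hg₀, hg₀'⟩ := ih X' hn (φ.comp (Submodule.inclusion inf_le_left))
      (hinj.comp (Submodule.inclusion_injective _)) (fun a b => hφ _ _)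
    have hfix : ∀ z (hz : z ∈ X'), g₀.symm (φ ⟨z, hz.1⟩) = z := fun z hz => by
      rw [LinearEquiv.symm_apply_eq]; exact (hg₀' ⟨z, hz⟩).symm
    have hψ : ∀ a b : X, B (g₀.symm (φ a)) (g₀.symm (φ b)) = B (a : V) (b : V) := fun a b => by
      rw [← hg₀, g₀.apply_symm_apply, g₀.apply_symm_apply, hφ]
    set y := g₀.symm (φ ⟨x, hxX⟩) with hy
    have hyX' : y ∉ X' := fun h => hxX' (by
      have h1 : g₀.symm (φ ⟨y, h.1⟩) = y := hfix y h
      have h2 := congrArg Subtype.val (hinj (g₀.symm.injective (h1.trans hy)))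
      exact (show y = x from h2) ▸ h)
    obtain ⟨g₁, hg₁, hg₁f, hg₁x⟩ := move X' x y hxX' hyX' (hψ _ _)
      (fun z hz => by have := hψ ⟨z, hz.1⟩ ⟨x, hxX⟩; rwa [hfix z hz] at this)
      (fun z hz => by have := hψ ⟨x, hxX⟩ ⟨z, hz.1⟩; rwa [hfix z hz] at this)
    refine ⟨g₁ ≪≫ₗ g₀, fun u v => (hg₀ _ _).trans (hg₁ u v), fun z => ?_⟩
    obtain ⟨l, hl⟩ := hdec z z.2
    have hz : z = ⟨(z : V) - l • x, hl.1⟩ + l • (⟨x, hxX⟩ : X) := Subtype.ext (by simp)
    have e1 : g₁ ((z : V) - l • x) = (z : V) - l • x := hg₁f _ hl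
    conv_lhs => rw [show (z : V) = ((z : V) - l • x) + l • x by abel]
    conv_rhs => rw [hz, map_add, map_smul]
    simp only [LinearEquiv.trans_apply, map_add, map_smul, e1, hg₁x]
    rw [hy, g₀.apply_symm_apply]
    exact congrArg (· + l • φ ⟨x, hxX⟩) (hg₀' ⟨_, hl⟩)

/-- An injective linear endomorphism as an automorphism preserving `B`. -/
theorem exists_equiv_of_preserves (hB : Function.Injective B) (T : V →ₗ[F] V)
    (hT : ∀ u v, B (T u) (T v) = B u v) :
    ∃ g : V ≃ₗ[F] V, (∀ u v, B (g u) (g v) = B u v) ∧ ∀ v, g v = T v := by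
  have hinj : Function.Injective T := fun a b h => hB (LinearMap.ext fun v => by
    rw [← hT a v, ← hT b v, h])
  exact ⟨LinearEquiv.ofInjectiveEndo T hinj, hT, fun v => rfl⟩

/-- A transvection or quasi-reflection moving `x` to `y` and fixing what is orthogonal to `y - x`. -/
theorem exists_move_of_ne {ε : F} (hσ2 : ∀ a, σ (σ a) = a) (hB : Function.Injective B)
    (hS : ∀ u v, B v u = ε * σ (B u v)) (hε : σ ε * ε = 1) {x y : V} (hyy : B y y = B x x)
    (hne : B (y - x) x ≠ 0) :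
    ∃ g : V ≃ₗ[F] V, (∀ u v, B (g u) (g v) = B u v) ∧ (∀ z, B (y - x) z = 0 → g z = z) ∧ g x = y := by
  set a := y - x with ha
  set c := (B a x)⁻¹ with hc
  let T : V →ₗ[F] V := LinearMap.id + ((c • B a : V →ₗ[F] F)).smulRight a
  have hTa : ∀ v, T v = v + (c * B a v) • a := fun v => rfl
  have hc' : σ c = (σ (B a x))⁻¹ := map_inv₀ σ _
  obtain ⟨g, hg, hgT⟩ := exists_equiv_of_preserves hB T fun u v => by
    simp only [hTa, map_add, map_smulₛₗ, LinearMap.add_apply, LinearMap.smul_apply, smul_eq_mul,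
      map_smul, RingHom.id_apply, map_mul]
    have e1 : B u a = ε * σ (B a u) := hS a u
    have e2 : B x a = ε * σ (B a x) := hS a x
    have hne' : σ (B a x) ≠ 0 := fun h => hne ((map_eq_zero σ).1 h)
    have e3 : B a a = -(ε * σ (B a x)) - B a x := by
      rw [← e2]
      simp only [ha, map_sub, LinearMap.sub_apply, hyy]
      ring
    have hε0 : ε ≠ 0 := fun h => by rw [h, mul_zero] at hε; exact zero_ne_one hε
    rw [e1, e3, hc', hc]
    field_simp
    ring
  refine ⟨g, hg, fun z hz => ?_, ?_⟩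
  · rw [hgT, hTa, hz, mul_zero, zero_smul, add_zero]
  · rw [hgT, hTa, hc, inv_mul_cancel₀ hne, one_smul, ha, add_sub_cancel]

/-- The move needed by `witt_of_move`, once a suitable intermediate vector exists. -/
theorem exists_move_sesq {ε : F} (hσ2 : ∀ a, σ (σ a) = a) (hB : Function.Injective B)
    (hS : ∀ u v, B v u = ε * σ (B u v)) (hε : σ ε * ε = 1)
    (adjust : ∀ x w : V, B w x ≠ 0 → ∃ t : F, t ≠ 0 ∧ B (x + t • w) (x + t • w) = B x x)
    (W : Submodule F V) (x y : V) (hx : x ∉ W) (hy : y ∉ W) (hyy : B y y = B x x)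
    (hzy : ∀ z ∈ W, B z y = B z x) :
    ∃ g : V ≃ₗ[F] V, (∀ u v, B (g u) (g v) = B u v) ∧ (∀ z ∈ W, g z = z) ∧ g x = y := by
  have hε0 : ε ≠ 0 := fun h => by rw [h, mul_zero] at hε; exact zero_ne_one hε
  have hsymm0 : ∀ u v, B u v = 0 → B v u = 0 := fun u v h => by rw [hS, h, map_zero, mul_zero]
  have hfix : ∀ {a b : V}, (∀ z ∈ W, B z a = B z b) → ∀ z ∈ W, B (a - b) z = 0 := fun h z hz =>
    hsymm0 _ _ (by rw [map_sub, h z hz, sub_self])
  by_cases hne : B (y - x) x ≠ 0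
  · obtain ⟨g, hg, hgf, hgx⟩ := exists_move_of_ne hσ2 hB hS hε hyy hne
    exact ⟨g, hg, fun z hz => hgf z (hfix hzy z hz), hgx⟩
  simp only [ne_eq, not_not, map_sub, LinearMap.sub_apply, sub_eq_zero] at hne
  let P : Submodule F V :=
    { carrier := {w | ∀ z ∈ W, B z w = 0}
      add_mem' := fun ha hb z hz => by rw [map_add, ha z hz, hb z hz, add_zero]
      zero_mem' := fun z _ => map_zero _
      smul_mem' := fun c a ha z hz => by rw [map_smul, ha z hz, smul_zero] }
  obtain ⟨w, hwP, hxw, hyw⟩ := exists_both_ne_zero (P := P) (f := B x) (g := B y)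
    (exists_ne_zero_of_not_mem hB hx) (exists_ne_zero_of_not_mem hB hy)
  have hwx : B w x ≠ 0 := fun h => hxw (hsymm0 _ _ h)
  obtain ⟨t, ht, hQ⟩ := adjust x w hwx
  set m := x + t • w with hm
  have hm1 : ∀ z ∈ W, B z m = B z x := fun z hz => by
    rw [hm, map_add, map_smul, hwP z hz, smul_zero, add_zero]
  obtain ⟨g₁, hg₁, hg₁f, hg₁x⟩ := exists_move_of_ne hσ2 hB hS hε (x := x) (y := m) hQ (by
    rw [hm, add_sub_cancel_left, map_smulₛₗ, LinearMap.smul_apply, smul_eq_mul]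
    exact mul_ne_zero (fun h => ht ((map_eq_zero σ).1 h)) hwx)
  obtain ⟨g₂, hg₂, hg₂f, hg₂x⟩ := exists_move_of_ne hσ2 hB hS hε (x := m) (y := y) (hyy.trans hQ.symm) (by
    rw [map_sub, LinearMap.sub_apply, hQ, hm, map_add, map_smul, smul_eq_mul, hne, add_sub_cancel_left]
    exact mul_ne_zero ht hyw)
  refine ⟨g₁ ≪≫ₗ g₂, fun u v => (hg₂ _ _).trans (hg₁ u v), fun z hz => ?_, ?_⟩
  · rw [LinearEquiv.trans_apply, hg₁f z (hfix hm1 z hz),
      hg₂f z (hfix (fun z hz => (hzy z hz).trans (hm1 z hz).symm) z hz)]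
  · rw [LinearEquiv.trans_apply, hg₁x, hg₂x]

/-- Witt's theorem for a non-degenerate alternating form. -/
theorem witt_alt (B : LinearMap.BilinForm F V) (hB : Function.Injective B) (hA : B.IsAlt)
    (X : Submodule F V) (φ : X →ₗ[F] V) (hinj : Function.Injective φ)
    (hφ : ∀ x x' : X, B (φ x) (φ x') = B (x : V) (x' : V)) :
    ∃ g : V ≃ₗ[F] V, (∀ u v, B (g u) (g v) = B u v) ∧ ∀ x : X, g (x : V) = φ x := by
  refine witt_of_move (σ := RingHom.id F) (B := B) ?_ _ X rfl φ hinj hφ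
  intro W x y hx hy hyy hzy _
  refine exists_move_sesq (σ := RingHom.id F) (ε := -1) (fun _ => rfl) hB (fun u v => ?_) (by simp)
    (fun x w _ => ⟨1, one_ne_zero, by rw [hA, hA]⟩) W x y hx hy hyy hzy
  simpa using (LinearMap.IsAlt.neg hA u v).symm

/-- Witt's theorem for a non-degenerate Hermitian form. -/
theorem witt_hermitian (hσ : σ ≠ RingHom.id F) (hσ2 : ∀ a, σ (σ a) = a) (hB : Function.Injective B)
    (hS : ∀ u v, σ (B u v) = B v u) (X : Submodule F V) (φ : X →ₗ[F] V) (hinj : Function.Injective φ)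
    (hφ : ∀ x x' : X, B (φ x) (φ x') = B (x : V) (x' : V)) :
    ∃ g : V ≃ₗ[F] V, (∀ u v, B (g u) (g v) = B u v) ∧ ∀ x : X, g (x : V) = φ x := by
  refine witt_of_move ?_ _ X rfl φ hinj hφ
  intro W x y hx hy hyy hzy _
  refine exists_move_sesq (ε := 1) hσ2 hB (fun u v => by rw [one_mul, hS]) (by simp) ?_ W x y hx hy hyy hzy
  intro x w hwx
  have hxw : B x w ≠ 0 := fun h => hwx (by rw [← hS, h, map_zero])
  have hfix : σ (B w w) = B w w := hS w w
  obtain ⟨s, hs⟩ : ∃ s : F, σ s ≠ s := by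
    by_contra hcon
    push Not at hcon
    exact hσ (RingHom.ext hcon)
  have expand : ∀ t : F, B (x + t • w) (x + t • w) =
      B x x + t * B x w + σ (t * B x w) + σ t * t * B w w := fun t => by
    simp only [map_add, map_smulₛₗ, LinearMap.add_apply, LinearMap.smul_apply, smul_eq_mul, map_smul,
      RingHom.id_apply, map_mul, hS]
    ring
  by_cases hg : B w w = 0
  · refine ⟨(s - σ s) / B x w, div_ne_zero (sub_ne_zero.2 (Ne.symm hs)) hxw, ?_⟩
    rw [expand, div_mul_cancel₀ _ hxw, hg, map_sub, hσ2]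
    ring
  · obtain ⟨s₀, hs₀⟩ : ∃ s₀ : F, s₀ + σ s₀ ≠ 0 := by
      by_contra hcon
      push Not at hcon
      have h2 : (1 : F) + 1 = 0 := by simpa using hcon 1
      exact hs (by linear_combination hcon s - s * h2)
    obtain ⟨u, hu⟩ : ∃ u, u = -(B w w) * s₀ / (s₀ + σ s₀) := ⟨_, rfl⟩
    have hs0 : s₀ ≠ 0 := fun h => hs₀ (by rw [h, map_zero, add_zero])
    have hu0 : u ≠ 0 := hu ▸ div_ne_zero (mul_ne_zero (neg_ne_zero.2 hg) hs0) hs₀
    have hτ : σ (s₀ + σ s₀) = s₀ + σ s₀ := by rw [map_add, hσ2, add_comm]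
    have htr : u + σ u = -(B w w) := by
      rw [hu, map_div₀, map_mul, map_neg, hfix, hτ]
      field_simp
      ring
    have hu0' : σ u ≠ 0 := fun h => hu0 ((map_eq_zero σ).1 h)
    have hxw' : σ (B x w) ≠ 0 := fun h => hxw ((map_eq_zero σ).1 h)
    refine ⟨σ (B x w) / σ u, div_ne_zero hxw' hu0', ?_⟩
    rw [expand, map_mul, map_div₀, hσ2, hσ2, show B w w = -(u + σ u) by rw [htr, neg_neg]]
    field_simp
    ring

end CfsgLib.Forms
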